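import Mathlib
import Cfsg.Agent.Lib.Helper3.Golay.NPerm

set_option autoImplicit false

/-! Kernel-fast variants of the base-32 digit lookup and of the composition of encoded permutations of the 24 points
(helper3's `lookN`, `compN`), written with the bare `Nat` functions. -/

namespace Cfsg.Agent.Lib.Helper4.Blk

open Cfsg.Agent.Lib.Helper3.Golay

/-- fast digit lookup -/
def lk (s x : ℕ) : ℕ := Nat.land (Nat.shiftRight s (Nat.mul 5 x)) 31

theorem lk_eq (s x : ℕ) : lk s x = lookN s x := by
  unfold lk lookN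
  show (s >>> (5 * x)) &&& 31 = s / 32 ^ x % 32
  rw [Nat.shiftRight_eq_div_pow, show (31 : ℕ) = 2 ^ 5 - 1 by norm_num, Nat.and_two_pow_sub_one_eq_mod,
    pow_mul]
  norm_num

/-- fast composition of codes -/
def cmp (s t : ℕ) : ℕ :=
  Nat.rec 0 (fun i acc => Nat.add acc (Nat.shiftLeft (lk s (lk t i)) (Nat.mul 5 i))) 24

theorem cmp_eq (s t : ℕ) : cmp s t = compN s t := by
  unfold cmp compN packN
  have : ∀ k : ℕ, (Nat.rec 0 (fun i acc => Nat.add acc (Nat.shiftLeft (lk s (lk t i)) (Nat.mul 5 i))) k : ℕ) =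
      Nat.rec 0 (fun i acc => acc + lookN s (lookN t i) * 32 ^ i) k := by
    intro k
    induction k with
    | zero => rfl
    | succ k ih =>
      show Nat.add _ _ = _ + _
      rw [ih]
      show _ + (lk s (lk t k)) <<< (5 * k) = _
      rw [Nat.shiftLeft_eq, lk_eq, lk_eq, pow_mul]
      norm_num
  exact this 24

end Cfsg.Agent.Lib.Helper4.Blk
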