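import Mathlib
import Cfsg.Agent.Lib.Helper3.Golay.M24Order
import Cfsg.Agent.Lib.Helper4.Blk.Fast

set_option autoImplicit false

/-! Canonical codes of permutations of the 24 points, permutations from tables, and Boolean tests on codes for the
relations `g * a = b * g` and `g * g = r`. -/

namespace Cfsg.Agent.Lib.Helper4.Blk

open Cfsg Cfsg.Agent.Lib.Helper3.Golay

/-- the canonical code of a permutation -/
def codeOf (σ : Equiv.Perm GolayPt) : ℕ := packN (fun i => idx (σ (pt i))) 24

theorem packN_congr {f g : ℕ → ℕ} {k : ℕ} (h : ∀ i < k, f i = g i) : packN f k = packN g k := by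
  induction k with
  | zero => rfl
  | succ k ih =>
    rw [packN_succ, packN_succ, ih (fun i hi => h i (Nat.lt_succ_of_lt hi)), h k (Nat.lt_succ_self k)]

theorem hasN_codeOf (σ : Equiv.Perm GolayPt) : HasN σ (codeOf σ) := by
  intro i hi
  unfold codeOf
  rw [lookN_packN _ hi]
  intro j _
  have := idx_lt (σ (pt j))
  omega

theorem codeOf_eq_of_hasN {σ : Equiv.Perm GolayPt} {f : ℕ → ℕ} (h : HasN σ (packN f 24))
    (hf : ∀ i < 24, f i < 32) : codeOf σ = packN f 24 := by
  unfold codeOf
  apply packN_congr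
  intro i hi
  rw [h i hi, lookN_packN hf hi]

theorem codeOf_mul (σ τ : Equiv.Perm GolayPt) : codeOf (σ * τ) = cmp (codeOf σ) (codeOf τ) := by
  rw [cmp_eq]
  have h := (hasN_codeOf σ).mul (hasN_codeOf τ)
  unfold compN at h ⊢
  apply codeOf_eq_of_hasN h
  intro i hi
  have := (hasN_codeOf σ).lt ((hasN_codeOf τ).lt hi)
  omega

theorem codeOf_injective : Function.Injective codeOf := by
  intro σ τ h
  have h1 := hasN_codeOf σ
  rw [h] at h1
  exact h1.ext (hasN_codeOf τ)

theorem codeOf_eq_encL {σ : Equiv.Perm GolayPt} {T : List ℕ} (h : HasTbl σ T) : codeOf σ = encL T := by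
  unfold encL
  apply codeOf_eq_of_hasN
  · exact h.hasN
  · intro i hi
    have := h.lt hi
    omega

theorem codeOf_one : codeOf 1 = idN := by
  unfold idN
  apply codeOf_eq_of_hasN
  · exact HasN.one
  · intro i hi; omega

theorem lk_codeOf (σ : Equiv.Perm GolayPt) {i : ℕ} (hi : i < 24) : lk (codeOf σ) i = idx (σ (pt i)) := by
  rw [lk_eq, hasN_codeOf σ i hi]

theorem lk_codeOf_lt (σ : Equiv.Perm GolayPt) {i : ℕ} (hi : i < 24) : lk (codeOf σ) i < 24 := by
  rw [lk_codeOf σ hi]; exact idx_lt _

/-- the permutation with a given table (the identity if the table is not one of an element of `M24`) -/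
noncomputable def pOf (T : List ℕ) : Equiv.Perm GolayPt :=
  if h : tblOK 0 T = true then Classical.choose (tblOK_sound h) else 1

theorem pOf_spec {T : List ℕ} (h : tblOK 0 T = true) : pOf T ∈ M24 ∧ HasTbl (pOf T) T := by
  unfold pOf
  rw [dif_pos h]
  obtain ⟨h1, h2⟩ := Classical.choose_spec (tblOK_sound h)
  exact ⟨(Subgroup.mem_inf.mp h1).1, h2⟩

/-- the order in which the points are tested -/
def ptO : List ℕ := [1, 2, 3, 4, 5, 6, 7, 8, 9, 10, 11, 12, 13, 14, 15, 16, 17, 18, 19, 20, 21, 22, 0, 23]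

theorem mem_ptO : ∀ p < 24, p ∈ ptO := by decide

theorem lt_of_mem_ptO : ∀ p ∈ ptO, p < 24 := by decide

/-- `g * a = b * g` on codes -/
def cjB (g a b : ℕ) : Bool := ptO.all fun p => Nat.beq (lk g (lk a p)) (lk b (lk g p))

/-- `g * g = r` on codes -/
def sqB (g r : ℕ) : Bool := ptO.all fun p => Nat.beq (lk g (lk g p)) (lk r p)

theorem cjB_iff (g a b : Equiv.Perm GolayPt) :
    cjB (codeOf g) (codeOf a) (codeOf b) = true ↔ g * a = b * g := by
  unfold cjB
  rw [List.all_eq_true]
  constructor
  · intro h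
    refine Equiv.ext fun x => ?_
    have hx := idx_lt x
    have h1 := Nat.eq_of_beq_eq_true (h (idx x) (mem_ptO _ hx))
    rw [lk_codeOf a hx, lk_codeOf g (idx_lt _), lk_codeOf g hx, lk_codeOf b (idx_lt _), pt_idx, pt_idx,
      pt_idx] at h1
    exact idx_injective h1
  · intro h p hp
    have hp' := lt_of_mem_ptO p hp
    have e : lk (codeOf g) (lk (codeOf a) p) = lk (codeOf b) (lk (codeOf g) p) := by
      rw [lk_codeOf a hp', lk_codeOf g (idx_lt _), lk_codeOf g hp', lk_codeOf b (idx_lt _), pt_idx, pt_idx]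
      have := congrArg (fun f : Equiv.Perm GolayPt => f (pt p)) h
      simp only [Equiv.Perm.mul_apply] at this
      rw [this]
    rw [e]; exact Nat.beq_refl _

theorem sqB_iff (g r : Equiv.Perm GolayPt) :
    sqB (codeOf g) (codeOf r) = true ↔ g * g = r := by
  unfold sqB
  rw [List.all_eq_true]
  constructor
  · intro h
    refine Equiv.ext fun x => ?_
    have hx := idx_lt x
    have h1 := Nat.eq_of_beq_eq_true (h (idx x) (mem_ptO _ hx))
    rw [lk_codeOf g hx, lk_codeOf g (idx_lt _), lk_codeOf r hx, pt_idx, pt_idx] at h1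
    exact idx_injective h1
  · intro h p hp
    have hp' := lt_of_mem_ptO p hp
    have e : lk (codeOf g) (lk (codeOf g) p) = lk (codeOf r) p := by
      rw [lk_codeOf g hp', lk_codeOf g (idx_lt _), lk_codeOf r hp', pt_idx]
      have := congrArg (fun f : Equiv.Perm GolayPt => f (pt p)) h
      simp only [Equiv.Perm.mul_apply] at this
      rw [this]
    rw [e]; exact Nat.beq_refl _

end Cfsg.Agent.Lib.Helper4.Blk
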