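import Mathlib
import Cfsg.Agent.Lib.Helper4.Blk.Codes

set_option autoImplicit false

/-! Enumeration of the groups `M24 ⊓ fixB k` of helper3's stabilizer chain by products of transversal elements given by
tables, and sums over them computed on codes. -/

namespace Cfsg.Agent.Lib.Helper4.Blk

open Cfsg Cfsg.Agent.Lib.Helper3.Golay

/-- the products of one element from each level -/
noncomputable def prodList : List (List (List ℕ)) → List (Equiv.Perm GolayPt)
  | [] => [1]
  | L :: Ls => L.flatMap fun T => (prodList Ls).map fun a => pOf T * a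

/-- level check: tables of elements of `M24` fixing the first `k` base points, with distinct images of the next -/
def lvlOK (k : ℕ) (L : List (List ℕ)) : Bool :=
  L.all (fun T => tblOK 0 T && fixesB T k) && decide ((L.map fun T => T.getD (base k) 0).Nodup)

/-- chain check -/
def chainOK : ℕ → List (List (List ℕ)) → Bool
  | _, [] => true
  | k, L :: Ls => lvlOK k L && chainOK (k + 1) Ls

theorem lvlOK_spec {k : ℕ} {L : List (List ℕ)} (h : lvlOK k L = true) :
    (∀ T ∈ L, tblOK 0 T = true ∧ fixesB T k = true) ∧ (L.map fun T => T.getD (base k) 0).Nodup := by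
  unfold lvlOK at h
  rw [Bool.and_eq_true, List.all_eq_true, decide_eq_true_eq] at h
  refine ⟨fun T hT => ?_, h.2⟩
  have := h.1 T hT
  rwa [Bool.and_eq_true] at this

theorem fixB_succ_le (k : ℕ) : fixB (k + 1) ≤ fixB k := by
  show fixB k ⊓ _ ≤ fixB k
  exact inf_le_left

theorem pOf_mem {k : ℕ} {T : List ℕ} (h1 : tblOK 0 T = true) (h2 : fixesB T k = true) :
    pOf T ∈ M24 ⊓ fixB k :=
  Subgroup.mem_inf.mpr ⟨(pOf_spec h1).1, (pOf_spec h1).2.mem_fixB h2⟩

theorem chain_mem {k : ℕ} {Ls : List (List (List ℕ))} (h : chainOK k Ls = true) :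
    ∀ g ∈ prodList Ls, g ∈ M24 ⊓ fixB k := by
  induction Ls generalizing k with
  | nil =>
    intro g hg
    rw [prodList, List.mem_singleton] at hg
    rw [hg]; exact one_mem _
  | cons L Ls ih =>
    intro g hg
    rw [chainOK, Bool.and_eq_true] at h
    obtain ⟨hL, -⟩ := lvlOK_spec h.1
    rw [prodList, List.mem_flatMap] at hg
    obtain ⟨T, hT, hg⟩ := hg
    rw [List.mem_map] at hg
    obtain ⟨a, ha, rfl⟩ := hg
    have h1 := ih h.2 a ha
    have h2 : a ∈ M24 ⊓ fixB k :=
      Subgroup.mem_inf.mpr ⟨(Subgroup.mem_inf.mp h1).1, fixB_succ_le k (Subgroup.mem_inf.mp h1).2⟩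
    exact mul_mem (pOf_mem (hL T hT).1 (hL T hT).2) h2

theorem pOf_apply_base {k : ℕ} {T : List ℕ} (h1 : tblOK 0 T = true) :
    pOf T (β k) = pt (T.getD (base k) 0) := by
  unfold β
  exact (pOf_spec h1).2.apply (base_lt k)

theorem chain_nodup {k : ℕ} {Ls : List (List (List ℕ))} (h : chainOK k Ls = true) :
    (prodList Ls).Nodup := by
  induction Ls generalizing k with
  | nil => exact List.nodup_singleton _
  | cons L Ls ih =>
    rw [chainOK, Bool.and_eq_true] at h
    obtain ⟨hL, hnd⟩ := lvlOK_spec h.1
    rw [prodList, List.nodup_flatMap]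
    refine ⟨fun T _ => (ih h.2).map (mul_right_injective _), ?_⟩
    rw [List.nodup_iff_pairwise_ne, List.pairwise_map] at hnd
    refine hnd.imp_of_mem ?_
    intro T T' hT hT' hne
    show List.Disjoint _ _
    intro g hg hg'
    rw [List.mem_map] at hg hg'
    obtain ⟨a, ha, rfl⟩ := hg
    obtain ⟨b, hb, hab⟩ := hg'
    have ha' := (mem_fixB.mp (Subgroup.mem_inf.mp (chain_mem h.2 a ha)).2) k (Nat.lt_succ_self k)
    have hb' := (mem_fixB.mp (Subgroup.mem_inf.mp (chain_mem h.2 b hb)).2) k (Nat.lt_succ_self k)
    have h1 := congrArg (fun f : Equiv.Perm GolayPt => f (β k)) hab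
    simp only [Equiv.Perm.mul_apply] at h1
    rw [ha', hb', pOf_apply_base (hL T hT).1, pOf_apply_base (hL T' hT').1] at h1
    apply hne
    have l1 : T.getD (base k) 0 < 24 := (pOf_spec (hL T hT).1).2.lt (base_lt k)
    have l2 : T'.getD (base k) 0 < 24 := (pOf_spec (hL T' hT').1).2.lt (base_lt k)
    have := congrArg idx h1
    rw [idx_pt l1, idx_pt l2] at this
    exact this.symm

theorem prodList_length (Ls : List (List (List ℕ))) :
    (prodList Ls).length = (Ls.map List.length).prod := by
  induction Ls with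
  | nil => rfl
  | cons L Ls ih =>
    rw [prodList, List.length_flatMap, List.map_cons, List.prod_cons]
    simp only [List.length_map, ih]
    rw [List.map_const', List.sum_replicate, smul_eq_mul]

/-- `E` lists the elements of `H` without repetition -/
structure Enum (H : Subgroup (Equiv.Perm GolayPt)) (E : List (Equiv.Perm GolayPt)) : Prop where
  nodup : E.Nodup
  mem : ∀ g, g ∈ E ↔ g ∈ H

theorem enum_of_chain {k : ℕ} {Ls : List (List (List ℕ))} (h : chainOK k Ls = true) (hk : k ≤ 7)
    (hc : (Ls.map List.length).prod = ∏ j ∈ Finset.Ico k 7, [24, 23, 22, 21, 20, 3, 16].getD j 0) :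
    Enum (M24 ⊓ fixB k) (prodList Ls) := by
  classical
  refine ⟨chain_nodup h, fun g => ⟨chain_mem h g, fun hg => ?_⟩⟩
  have hsub : (prodList Ls).toFinset ⊆ Finset.univ.filter (fun g => g ∈ M24 ⊓ fixB k) := by
    intro x hx
    rw [List.mem_toFinset] at hx
    rw [Finset.mem_filter]
    exact ⟨Finset.mem_univ _, chain_mem h x hx⟩
  have hcard : (Finset.univ.filter (fun g => g ∈ M24 ⊓ fixB k)).card = (prodList Ls).toFinset.card := by
    rw [List.toFinset_card_of_nodup (chain_nodup h), prodList_length, hc, ← card_M24_inf_fixB hk,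
      Nat.card_eq_fintype_card, Fintype.card_subtype]
  have := Finset.eq_of_subset_of_card_le hsub (le_of_eq hcard)
  have hg' : g ∈ Finset.univ.filter (fun g => g ∈ M24 ⊓ fixB k) := by
    rw [Finset.mem_filter]; exact ⟨Finset.mem_univ _, hg⟩
  rw [← this, List.mem_toFinset] at hg'
  exact hg'

theorem Enum.card_filter {H : Subgroup (Equiv.Perm GolayPt)} {E : List (Equiv.Perm GolayPt)}
    (hE : Enum H E) [Fintype ↥H] (p : ↥H → Prop) [DecidablePred p] (q : Equiv.Perm GolayPt → Bool)
    (hpq : ∀ g : ↥H, p g ↔ q g.1 = true) :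
    (Finset.univ.filter p).card = E.countP q := by
  classical
  rw [List.countP_eq_length_filter, ← List.toFinset_card_of_nodup (hE.nodup.filter _),
    ← Finset.card_map ⟨Subtype.val, Subtype.val_injective⟩]
  congr 1
  ext g
  simp only [Finset.mem_map, Finset.mem_filter, Finset.mem_univ, true_and, Function.Embedding.coeFn_mk,
    List.mem_toFinset, List.mem_filter]
  constructor
  · rintro ⟨x, hx, rfl⟩
    exact ⟨(hE.mem _).mpr x.2, (hpq x).mp hx⟩
  · rintro ⟨h1, h2⟩
    exact ⟨⟨g, (hE.mem g).mp h1⟩, (hpq _).mpr h2, rfl⟩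

theorem Enum.length_eq {H : Subgroup (Equiv.Perm GolayPt)} {E : List (Equiv.Perm GolayPt)}
    (hE : Enum H E) : E.length = Nat.card ↥H := by
  classical
  rw [← List.toFinset_card_of_nodup hE.nodup, Nat.card_eq_fintype_card, Fintype.card_subtype]
  congr 1
  ext g
  simp [hE.mem]

/-! ### Sums over the enumeration, on codes -/

/-- the codes of the tables -/
def codes (Ls : List (List (List ℕ))) : List (List ℕ) := Ls.map fun L => L.map encL

/-- sum of `F` over the codes `h * c₁ * ⋯ * cₙ`, one `cᵢ` from each level -/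
def sweepC : List (List ℕ) → (ℕ → ℕ) → ℕ → ℕ
  | [], F, h => F h
  | U :: Us, F, h => (U.map fun c => sweepC Us F (cmp h c)).sum

theorem sum_prodList {k : ℕ} {Ls : List (List (List ℕ))} (h : chainOK k Ls = true) (F : ℕ → ℕ)
    (ρ : Equiv.Perm GolayPt) :
    ((prodList Ls).map fun a => F (codeOf (ρ * a))).sum = sweepC (codes Ls) F (codeOf ρ) := by
  induction Ls generalizing k ρ with
  | nil => simp [prodList, codes, sweepC]
  | cons L Ls ih =>
    rw [chainOK, Bool.and_eq_true] at h
    obtain ⟨hL, -⟩ := lvlOK_spec h.1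
    have key : ∀ (L' : List (List ℕ)), (∀ T ∈ L', tblOK 0 T = true) →
        ((L'.flatMap fun T => (prodList Ls).map fun a => pOf T * a).map
          fun a => F (codeOf (ρ * a))).sum =
        ((L'.map encL).map fun c => sweepC (codes Ls) F (cmp (codeOf ρ) c)).sum := by
      intro L' hL'
      induction L' with
      | nil => rfl
      | cons T L' ih' =>
        rw [List.flatMap_cons, List.map_append, List.sum_append, List.map_cons, List.map_cons,
          List.sum_cons, ih' (fun T' hT' => hL' T' (List.mem_cons_of_mem _ hT'))]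
        congr 1
        rw [List.map_map]
        have := ih h.2 (ρ * pOf T)
        rw [codeOf_mul, codeOf_eq_encL (pOf_spec (hL' T List.mem_cons_self)).2] at this
        rw [← this]
        rfl
    exact key L (fun T hT => (hL T hT).1)

theorem sum_prodList_top {k : ℕ} {L : List (List ℕ)} {Ls : List (List (List ℕ))}
    (h : chainOK k (L :: Ls) = true) (F : ℕ → ℕ) :
    ((prodList (L :: Ls)).map fun a => F (codeOf a)).sum =
      ((L.map encL).map fun c => sweepC (codes Ls) F c).sum := by
  have h' := h
  rw [chainOK, Bool.and_eq_true] at h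
  obtain ⟨hL, -⟩ := lvlOK_spec h.1
  have key : ∀ (L' : List (List ℕ)), (∀ T ∈ L', tblOK 0 T = true) →
      ((L'.flatMap fun T => (prodList Ls).map fun a => pOf T * a).map fun a => F (codeOf a)).sum =
      ((L'.map encL).map fun c => sweepC (codes Ls) F c).sum := by
    intro L' hL'
    induction L' with
    | nil => rfl
    | cons T L' ih' =>
      rw [List.flatMap_cons, List.map_append, List.sum_append, List.map_cons, List.map_cons,
        List.sum_cons, ih' (fun T' hT' => hL' T' (List.mem_cons_of_mem _ hT'))]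
      congr 1
      rw [List.map_map]
      have := sum_prodList h.2 F (pOf T)
      rw [codeOf_eq_encL (pOf_spec (hL' T List.mem_cons_self)).2] at this
      rw [← this]
      rfl
  exact key L (fun T hT => (hL T hT).1)

/-! ### Several counts in one sum -/

/-- the flags of the tests `ps` on `c`, as digits in base `2 ^ 20` -/
def packP : List (ℕ → Bool) → ℕ → ℕ
  | [], _ => 0
  | p :: ps, c => Nat.add (cond (p c) 1 0) (Nat.mul 1048576 (packP ps c))

theorem sum_cond_eq_countP {α : Type*} (E : List α) (q : α → Bool) :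
    (E.map fun a => cond (q a) 1 0).sum = E.countP q := by
  induction E with
  | nil => rfl
  | cons a E ihE =>
    rw [List.map_cons, List.sum_cons, ihE, List.countP_cons]
    cases q a <;> simp [Nat.add_comm]

theorem sum_packP {α : Type*} (E : List α) (f : α → ℕ) (ps : List (ℕ → Bool)) :
    (E.map fun a => packP ps (f a)).sum =
      Nat.ofDigits 1048576 (ps.map fun p => E.countP fun a => p (f a)) := by
  induction ps with
  | nil => simp [packP]
  | cons p ps ih =>
    rw [List.map_cons, Nat.ofDigits_cons, ← ih]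
    simp only [packP, Nat.add_eq, Nat.mul_eq]
    rw [List.sum_map_add, List.sum_map_mul_left]
    congr 1
    exact sum_cond_eq_countP E fun a => p (f a)

theorem counts_eq {α : Type*} (E : List α) (f : α → ℕ) (ps : List (ℕ → Bool)) (hE : E.length < 1048576)
    (ns : List ℕ) (hlen : ns.length = ps.length) (hns : ∀ n ∈ ns, n < 1048576)
    (hsum : (E.map fun a => packP ps (f a)).sum = Nat.ofDigits 1048576 ns) :
    (ps.map fun p => E.countP fun a => p (f a)) = ns := by
  rw [sum_packP] at hsum
  refine Nat.ofDigits_inj_of_len_eq (by norm_num) (by rw [List.length_map, hlen]) ?_ hns hsum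
  intro n hn
  rw [List.mem_map] at hn
  obtain ⟨p, -, rfl⟩ := hn
  exact lt_of_le_of_lt List.countP_le_length hE

/-! ### Elements given by words -/

/-- the product of the entries of the levels with the indices given by the base 32 digits of `w` -/
noncomputable def eltW : List (List (List ℕ)) → ℕ → Equiv.Perm GolayPt
  | [], _ => 1
  | L :: Ls, w => pOf (L.getD (w % 32) []) * eltW Ls (w / 32)

/-- the same on codes -/
def cwW : List (List ℕ) → ℕ → ℕ
  | [], _ => idN
  | U :: Us, w => cmp (U.getD (w % 32) idN) (cwW Us (w / 32))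

theorem pOf_nil : pOf [] = 1 := by
  unfold pOf
  rw [dif_neg (by decide)]

theorem codeOf_eltW {k : ℕ} {Ls : List (List (List ℕ))} (h : chainOK k Ls = true) (w : ℕ) :
    codeOf (eltW Ls w) = cwW (codes Ls) w := by
  induction Ls generalizing k w with
  | nil => exact codeOf_one
  | cons L Ls ih =>
    rw [chainOK, Bool.and_eq_true] at h
    obtain ⟨hL, -⟩ := lvlOK_spec h.1
    rw [eltW, codeOf_mul, ih h.2]
    show _ = cmp ((L.map encL).getD (w % 32) idN) (cwW (codes Ls) (w / 32))
    congr 1
    by_cases hi : w % 32 < L.length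
    · rw [List.getD_eq_getElem _ _ hi, List.getD_eq_getElem _ _ (by rw [List.length_map]; exact hi),
        List.getElem_map]
      exact codeOf_eq_encL (pOf_spec (hL _ (List.getElem_mem hi)).1).2
    · rw [List.getD_eq_default _ _ (by omega), List.getD_eq_default _ _ (by rw [List.length_map]; omega),
        pOf_nil, codeOf_one]

theorem eltW_mem {k : ℕ} {Ls : List (List (List ℕ))} (h : chainOK k Ls = true) (w : ℕ) :
    eltW Ls w ∈ M24 ⊓ fixB k := by
  induction Ls generalizing k w with
  | nil => exact one_mem _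
  | cons L Ls ih =>
    rw [chainOK, Bool.and_eq_true] at h
    obtain ⟨hL, -⟩ := lvlOK_spec h.1
    rw [eltW]
    have h1 := ih h.2 (w / 32)
    have h2 : eltW Ls (w / 32) ∈ M24 ⊓ fixB k :=
      Subgroup.mem_inf.mpr ⟨(Subgroup.mem_inf.mp h1).1, fixB_succ_le k (Subgroup.mem_inf.mp h1).2⟩
    refine mul_mem ?_ h2
    by_cases hi : w % 32 < L.length
    · rw [List.getD_eq_getElem _ _ hi]
      exact pOf_mem (hL _ (List.getElem_mem hi)).1 (hL _ (List.getElem_mem hi)).2
    · rw [List.getD_eq_default _ _ (by omega), pOf_nil]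
      exact one_mem _

/-- powers on codes -/
def powC (c : ℕ) : ℕ → ℕ
  | 0 => idN
  | n + 1 => cmp (powC c n) c

theorem codeOf_pow (g : Equiv.Perm GolayPt) (n : ℕ) : codeOf (g ^ n) = powC (codeOf g) n := by
  induction n with
  | zero => exact codeOf_one
  | succ n ih => rw [pow_succ, codeOf_mul, ih, powC]

end Cfsg.Agent.Lib.Helper4.Blk
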