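import Mathlib
import Cfsg.Agent.Lib.Helper6.ResidueField
import Cfsg.Agent.Lib.Helper6.Osima
import Cfsg.Agent.Lib.Helper6.InducedDefect

set_option autoImplicit false

/-!
# A single 2-block from the squaring map of the class algebra modulo 2

Abstract part: in a commutative ring of characteristic 2, if `ω l ^ 2` is the sum of the `ω l'` over the bits `l'` of
`rows[l]`, then `(W v) ^ 2 ^ n = W (frobStep rows)^[n] v` for the bit-vector sums `W v = ∑_{l ∈ v} ω l`.
-/

namespace Cfsg.Agent.Lib.Helper4.Blk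

/-- one squaring step on bit vectors: the xor of the rows at the bits of `v` -/
def frobAux : List ℕ → ℕ → ℕ → ℕ
  | [], _, _ => 0
  | r :: rs, k, v => (if v.testBit k then r else 0) ^^^ frobAux rs (k + 1) v

/-- one squaring step -/
def frobStep (rows : List ℕ) (v : ℕ) : ℕ := frobAux rows 0 v

section abstract

variable {K : Type*} [CommRing K] [CharP K 2]

/-- the sum of the `ω l` over the bits `l < c` of `v` -/
def bitSum (c : ℕ) (ω : ℕ → K) (v : ℕ) : K :=
  ∑ l ∈ Finset.range c, if v.testBit l then ω l else 0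

theorem two_eq_zero' : (2 : K) = 0 := by
  have := CharP.cast_eq_zero K 2
  exact_mod_cast this

theorem add_self' (x : K) : x + x = 0 := by
  rw [← two_mul, two_eq_zero', zero_mul]

theorem bitSum_zero (c : ℕ) (ω : ℕ → K) : bitSum c ω 0 = 0 := by
  unfold bitSum
  apply Finset.sum_eq_zero
  intro l _
  simp

theorem bitSum_xor (c : ℕ) (ω : ℕ → K) (a b : ℕ) :
    bitSum c ω (a ^^^ b) = bitSum c ω a + bitSum c ω b := by
  unfold bitSum
  rw [← Finset.sum_add_distrib]
  apply Finset.sum_congr rfl
  intro l _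
  rw [Nat.testBit_xor]
  cases a.testBit l <;> cases b.testBit l <;> simp [add_self']

theorem bitSum_two_pow (c : ℕ) (ω : ℕ → K) {k : ℕ} (hk : k < c) : bitSum c ω (2 ^ k) = ω k := by
  unfold bitSum
  rw [Finset.sum_eq_single k]
  · simp [Nat.testBit_two_pow_self]
  · intro l _ hl
    rw [Nat.testBit_two_pow]
    simp [Ne.symm hl]
  · intro h
    exact absurd (Finset.mem_range.mpr hk) h

theorem bitSum_one (c : ℕ) (ω : ℕ → K) (hc : 0 < c) : bitSum c ω 1 = ω 0 := by
  have := bitSum_two_pow c ω hc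
  simpa using this

theorem bitSum_frobAux (c : ℕ) (ω : ℕ → K) (rs : List ℕ) (k v : ℕ) :
    bitSum c ω (frobAux rs k v) =
      ∑ i ∈ Finset.range rs.length, if v.testBit (k + i) then bitSum c ω (rs.getD i 0) else 0 := by
  induction rs generalizing k with
  | nil => simp [frobAux, bitSum_zero]
  | cons r rs ih =>
    rw [frobAux, bitSum_xor, ih, List.length_cons, Finset.sum_range_succ']
    rw [add_comm]
    congr 1
    · apply Finset.sum_congr rfl
      intro i _
      rw [show k + 1 + i = k + (i + 1) by ring]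
      simp
    · simp only [add_zero, List.getD_cons_zero]
      split_ifs
      · rfl
      · exact bitSum_zero c ω

theorem bitSum_sq (c : ℕ) (ω : ℕ → K) (rows : List ℕ) (hlen : rows.length = c)
    (hsq : ∀ l < c, ω l ^ 2 = bitSum c ω (rows.getD l 0)) (v : ℕ) :
    bitSum c ω v ^ 2 = bitSum c ω (frobStep rows v) := by
  unfold frobStep
  rw [bitSum_frobAux, hlen]
  conv_lhs => unfold bitSum
  rw [sum_pow_char]
  apply Finset.sum_congr rfl
  intro l hl
  rw [Finset.mem_range] at hl
  rw [zero_add]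
  split_ifs
  · exact hsq l hl
  · simp

theorem bitSum_pow (c : ℕ) (ω : ℕ → K) (rows : List ℕ) (hlen : rows.length = c)
    (hsq : ∀ l < c, ω l ^ 2 = bitSum c ω (rows.getD l 0)) (n : ℕ) (v : ℕ) :
    bitSum c ω v ^ 2 ^ n = bitSum c ω ((frobStep rows)^[n] v) := by
  induction n generalizing v with
  | zero => simp
  | succ n ih =>
    rw [pow_succ', pow_mul, bitSum_sq c ω rows hlen hsq, ih, Function.iterate_succ_apply]

/-- the value of `ω k ^ 2 ^ n` when the iterated squaring of the `k`th unit vector ends in `{0, 1}` -/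
theorem pow_eq_of_frob (c : ℕ) (ω : ℕ → K) (rows : List ℕ) (hlen : rows.length = c)
    (hsq : ∀ l < c, ω l ^ 2 = bitSum c ω (rows.getD l 0)) (h0 : ω 0 = 1) (n : ℕ) {k : ℕ} (hk : k < c)
    (hnil : (frobStep rows)^[n] (2 ^ k) ≤ 1) :
    ω k ^ 2 ^ n = (((frobStep rows)^[n] (2 ^ k) : ℕ) : K) := by
  rw [← bitSum_two_pow c ω hk, bitSum_pow c ω rows hlen hsq]
  have hc : 0 < c := by omega
  rcases Nat.le_one_iff_eq_zero_or_eq_one.mp hnil with h | h
  · rw [h, bitSum_zero]; simp
  · rw [h, bitSum_one c ω hc, h0]; simp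

end abstract

end Cfsg.Agent.Lib.Helper4.Blk
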