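import Mathlib
import Cfsg.Agent.Lib.Helper4.Blk.Frob

set_option autoImplicit false

/-!
# Criterion for a single 2-block

`sameBlock_of_cert`: class representatives `z 0 = 1, …, z (c - 1)`, the parities of the numbers of solutions of
`x * y = z l` with `x, y` conjugate to `z k` (as the bits of `rows[k]`), and nilpotency of the resulting squaring map on
the class algebra modulo 2 give that all irreducible characters lie in one 2-block.
-/

namespace Cfsg.Agent.Lib.Helper4.Blk

open Cfsg Cfsg.Agent.Lib.Helper6 Cfsg.Agent.Lib.Helper24 Cfsg.Agent.Lib.Helper6.SepClasses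
open Cfsg.Agent.CharLib

universe u

variable {G : Type u} [Group G] [Fintype G]

/-- the number of `x` conjugate to `a` with `x⁻¹ w` conjugate to `a` -/
noncomputable def pairCount (a w : G) : ℕ := Nat.card {x : G // IsConj a x ∧ IsConj a (x⁻¹ * w)}

theorem conv_classInd_self (a w : G) : conv (classInd a) (classInd a) w = (pairCount a w : ℂ) := by
  classical
  unfold conv pairCount
  rw [Nat.card_eq_fintype_card, Fintype.card_subtype, Finset.card_filter, Nat.cast_sum]
  apply Finset.sum_congr rfl
  intro g _
  by_cases h1 : IsConj a g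
  · by_cases h2 : IsConj a (g⁻¹ * w)
    · rw [classInd_of_isConj h1, classInd_of_isConj h2, if_pos ⟨h1, h2⟩]; norm_num
    · rw [classInd_of_isConj h1, classInd_of_not_isConj h2, if_neg (fun h => h2 h.2)]; norm_num
  · rw [classInd_of_not_isConj h1, if_neg (fun h => h1 h.1)]; norm_num

theorem pairCount_conj (a w h : G) : pairCount a (h * w * h⁻¹) = pairCount a w := by
  have := conv_isClassFunction (classInd_isClassFunction a) (classInd_isClassFunction a) w h
  rw [conv_classInd_self, conv_classInd_self] at this
  exact_mod_cast this

theorem pairCount_of_isConj (a : G) {w w' : G} (h : IsConj w w') : pairCount a w' = pairCount a w := by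
  obtain ⟨c, hc⟩ := isConj_iff.mp h
  rw [← hc, pairCount_conj]

variable {M : Ideal AlgInt}

theorem charP_resF (hM : IsPModular 2 M) :
    haveI := isPrime_of_isPModular hM
    CharP (ResF M) 2 := by
  haveI := isPrime_of_isPModular hM
  apply CharTwo.of_one_ne_zero_of_two_eq_zero
  · exact one_ne_zero
  · have h2 : (2 : ResF M) = resMk M 2 := (map_ofNat (resMk M) 2).symm
    rw [h2, resMk_eq_zero_iff]
    have hpM : ∀ p : ℕ, IsPModular p M → MemLocalIdeal M (p : ℂ) := by
      intro p hp
      have := memLocalIdeal_of_mem hp.2.2 (one_not_mem_of_isPModular hp)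
      simpa using this
    have h3 := hpM 2 hM
    exact_mod_cast h3

/-- **Criterion for a single 2-block.** -/
theorem sameBlock_of_cert (hM : IsPModular 2 M) (c : ℕ) (z : ℕ → G) (h0 : z 0 = 1)
    (hcomp : ∀ g : G, ∃ k < c, IsConj (z k) g)
    (hdisj : ∀ k < c, ∀ l < c, IsConj (z k) (z l) → k = l)
    (rows : List ℕ) (hlen : rows.length = c)
    (hrows : ∀ k < c, ∀ l < c,
      pairCount (z k) (z l) % 2 = if (rows.getD k 0).testBit l then 1 else 0)
    (n : ℕ) (hnil : ∀ k < c, (frobStep rows)^[n] (2 ^ k) ≤ 1)
    (χ ψ : IrrCharacter G) : SameBlock M (χ : G → ℂ) (ψ : G → ℂ) := by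
  classical
  haveI hprime : M.IsPrime := isPrime_of_isPModular hM
  haveI : CharP (ResF M) 2 := charP_resF hM
  -- the central character values in the residue field
  let ω : IrrCharacter G → ℕ → ResF M := fun φ k =>
    resMk M ⟨centralChar (φ : G → ℂ) (z k), memLocalRing_centralChar φ (z k)⟩
  have hω0 : ∀ φ : IrrCharacter G, ω φ 0 = 1 := by
    intro φ
    have h1 : centralChar (φ : G → ℂ) (z 0) = 1 := by
      rw [h0]; exact centralChar_one φ
    have h2 : (⟨centralChar (φ : G → ℂ) (z 0), memLocalRing_centralChar φ (z 0)⟩ :
        Helper23.localSubring M) = 1 := Subtype.ext h1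
    show resMk M _ = 1
    rw [h2, map_one]
  -- the squaring relations
  have hsq : ∀ φ : IrrCharacter G, ∀ k < c,
      ω φ k ^ 2 = bitSum c (ω φ) (rows.getD k 0) := by
    intro φ k hk
    -- the class function `T` and the quotient `D`
    let T : G → ℂ := ∑ l ∈ Finset.range c,
      (if (rows.getD k 0).testBit l then (1 : ℂ) else 0) • classInd (z l)
    have hTcls : IsClassFunction G T := by
      intro x h
      simp only [T, Finset.sum_apply, Pi.smul_apply, smul_eq_mul]
      apply Finset.sum_congr rfl
      intro l _
      rw [classInd_conj]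
    -- pointwise description of `T`
    have hTval : ∀ w : G, ∀ l < c, IsConj (z l) w →
        T w = if (rows.getD k 0).testBit l then 1 else 0 := by
      intro w l hl hlw
      simp only [T, Finset.sum_apply, Pi.smul_apply, smul_eq_mul]
      rw [Finset.sum_eq_single l]
      · rw [classInd_of_isConj hlw, mul_one]
      · intro l' hl' hne
        rw [Finset.mem_range] at hl'
        have : ¬ IsConj (z l') w := by
          intro h
          exact hne (hdisj l' hl' l hl (h.trans hlw.symm))
        rw [classInd_of_not_isConj this, mul_zero]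
      · intro h
        exact absurd (Finset.mem_range.mpr hl) h
    -- the difference is twice a natural number
    have hD : ∀ w : G, ∃ m : ℕ, conv (classInd (z k)) (classInd (z k)) w - T w = 2 * (m : ℂ) := by
      intro w
      obtain ⟨l, hl, hlw⟩ := hcomp w
      rw [conv_classInd_self, hTval w l hl hlw, pairCount_of_isConj (z k) hlw]
      have hr := hrows k hk l hl
      by_cases hb : (rows.getD k 0).testBit l
      · rw [if_pos hb] at hr ⊢
        refine ⟨pairCount (z k) (z l) / 2, ?_⟩
        have : pairCount (z k) (z l) = 2 * (pairCount (z k) (z l) / 2) + 1 := by omega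
        rw [this]
        push_cast
        have h3 : ((2 * (pairCount (z k) (z l) / 2) + 1) / 2 : ℕ) = pairCount (z k) (z l) / 2 := by
          omega
        rw [h3]
        ring
      · rw [if_neg hb] at hr ⊢
        refine ⟨pairCount (z k) (z l) / 2, ?_⟩
        have : pairCount (z k) (z l) = 2 * (pairCount (z k) (z l) / 2) := by omega
        rw [this]
        push_cast
        have h3 : ((2 * (pairCount (z k) (z l) / 2)) / 2 : ℕ) = pairCount (z k) (z l) / 2 := by
          omega
        rw [h3]
        ring
    choose m hm using hD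
    let D : G → ℂ := fun w => (m w : ℂ)
    have hconv : conv (classInd (z k)) (classInd (z k)) = T + (2 : ℂ) • D := by
      funext w
      simp only [Pi.add_apply, Pi.smul_apply, smul_eq_mul, D]
      rw [← hm w]
      ring
    have hDcls : IsClassFunction G D := by
      intro x h
      have h1 := conv_isClassFunction (classInd_isClassFunction (z k)) (classInd_isClassFunction (z k)) x h
      have h2 := hTcls x h
      have h3 := hm (h * x * h⁻¹)
      have h4 := hm x
      rw [h1, h2, h4] at h3
      simp only [D]
      have : (2 : ℂ) ≠ 0 := two_ne_zero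
      exact (mul_left_cancel₀ this h3).symm
    have hDR : ∀ x, MemLocalRing M (D x) := fun x => memLocalRing_natCast (m x)
    -- apply the central character functional
    have h1 := omegaFun_conv φ (classInd_isClassFunction (z k)) (classInd_isClassFunction (z k))
    rw [hconv, omegaFun_add, omegaFun_smul, omegaFun_classInd] at h1
    have h2 : omegaFun (φ : G → ℂ) T = ∑ l ∈ Finset.range c,
        (if (rows.getD k 0).testBit l then (1 : ℂ) else 0) * centralChar (φ : G → ℂ) (z l) := by
      simp only [T]
      rw [omegaFun_sum]
      apply Finset.sum_congr rfl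
      intro l _
      rw [omegaFun_smul, omegaFun_classInd]
    rw [h2] at h1
    -- pass to the residue field
    let dR : Helper23.localSubring M := ⟨omegaFun (φ : G → ℂ) D, memLocalRing_omegaFun φ hDcls hDR⟩
    let wR : ℕ → Helper23.localSubring M := fun l =>
      ⟨centralChar (φ : G → ℂ) (z l), memLocalRing_centralChar φ (z l)⟩
    have h3 : wR k ^ 2 = ∑ l ∈ Finset.range c,
        (if (rows.getD k 0).testBit l then (1 : Helper23.localSubring M) else 0) * wR l + 2 * dR := by
      apply Subtype.ext
      push_cast
      simp only [wR, dR]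
      rw [pow_two, ← h1]
      congr 1
      apply Finset.sum_congr rfl
      intro l _
      split_ifs <;> simp
    have h4 := congrArg (resMk M) h3
    rw [map_pow, map_add, map_sum, map_mul] at h4
    have h5 : resMk M (2 : Helper23.localSubring M) = 0 := by
      rw [map_ofNat]; exact two_eq_zero'
    rw [h5, zero_mul, add_zero] at h4
    show resMk M (wR k) ^ 2 = _
    rw [h4]
    unfold bitSum
    apply Finset.sum_congr rfl
    intro l _
    rw [map_mul]
    split_ifs <;> simp [ω, wR]
  -- conclusion
  intro g
  obtain ⟨k, hk, hkg⟩ := hcomp g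
  rw [← centralChar_eq_of_isConj χ hkg, ← centralChar_eq_of_isConj ψ hkg]
  have e1 := pow_eq_of_frob c (ω χ) rows hlen (hsq χ) (hω0 χ) n hk (hnil k hk)
  have e2 := pow_eq_of_frob c (ω ψ) rows hlen (hsq ψ) (hω0 ψ) n hk (hnil k hk)
  have e3 : (ω χ k - ω ψ k) ^ 2 ^ n = 0 := by
    rw [sub_pow_char_pow, e1, e2, sub_self]
  have e4 : ω χ k = ω ψ k := sub_eq_zero.mp (pow_eq_zero_iff (by positivity) |>.mp e3)
  exact (resMk_eq_iff _ _).mp e4

end Cfsg.Agent.Lib.Helper4.Blk
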