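import Mathlib
import Cfsg.Agent.Lib.Helper4.Blk.Crit

set_option autoImplicit false

/-! Class representatives from centralizer orders, and the count of the square roots `y` of `r` with `y * w` in a
given class from a list of roots with their classes. -/

namespace Cfsg.Agent.Lib.Helper4.Blk

open Cfsg.Agent.Lib.Helper24

universe u

variable {G : Type u} [Group G] [Fintype G]

theorem card_class_eq (g : G) (n : ℕ) (hn : Nat.card (Subgroup.centralizer ({g} : Set G)) = n) :
    Nat.card {x : G // IsConj g x} = Fintype.card G / n := by
  have h1 : Nat.card {x : G // IsConj g x} = {x : G | IsConj g x}.ncard := rfl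
  rw [h1, ncard_conj_eq_index]
  have h2 := Subgroup.index_mul_card (Subgroup.centralizer ({g} : Set G))
  rw [hn, Nat.card_eq_fintype_card] at h2
  have hpos : 0 < n := by
    rw [← hn]; exact Nat.card_pos
  exact (Nat.div_eq_of_eq_mul_left hpos h2.symm).symm

/-- class equation: pairwise non-conjugate elements whose class sizes add up to the group order represent all
classes -/
theorem classes_complete (c : ℕ) (z : ℕ → G) (cs : List ℕ)
    (hcent : ∀ k < c, Nat.card (Subgroup.centralizer ({z k} : Set G)) = cs.getD k 0)
    (hdisj : ∀ k < c, ∀ l < c, IsConj (z k) (z l) → k = l)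
    (hsum : ∑ k ∈ Finset.range c, Fintype.card G / cs.getD k 0 = Fintype.card G) :
    ∀ g : G, ∃ k < c, IsConj (z k) g := by
  classical
  let S : Finset G := (Finset.range c).biUnion fun k => Finset.univ.filter fun x => IsConj (z k) x
  have hS : S.card = Fintype.card G := by
    rw [Finset.card_biUnion]
    · rw [← hsum]
      apply Finset.sum_congr rfl
      intro k hk
      rw [Finset.mem_range] at hk
      rw [← card_class_eq (z k) _ (hcent k hk), Nat.card_eq_fintype_card, Fintype.card_subtype]
    · intro k hk l hl hkl
      rw [Finset.mem_coe, Finset.mem_range] at hk hl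
      rw [Function.onFun, Finset.disjoint_filter]
      intro x _ h1 h2
      exact hkl (hdisj k hk l hl (h1.trans h2.symm))
  have hS' : S = Finset.univ := Finset.eq_univ_of_card S hS
  intro g
  have hg : g ∈ S := by rw [hS']; exact Finset.mem_univ g
  rw [Finset.mem_biUnion] at hg
  obtain ⟨k, hk, hg⟩ := hg
  rw [Finset.mem_filter] at hg
  exact ⟨k, Finset.mem_range.mp hk, hg.2⟩

/-- the number of square roots `y` of `r` with `y * w` conjugate to `z k`, from a list of all roots with their
classes -/
theorem card_sqrt_class (c : ℕ) (z : ℕ → G)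
    (hdisj : ∀ k < c, ∀ l < c, IsConj (z k) (z l) → k = l) (r w : G) (YK : List (G × ℕ))
    (hnd : (YK.map Prod.fst).Nodup)
    (hYK : ∀ t ∈ YK, t.1 * t.1 = r ∧ t.2 < c ∧ IsConj (z t.2) (t.1 * w))
    (hN : Nat.card {y : G // y * y = r} ≤ YK.length) (k : ℕ) (hk : k < c) :
    Nat.card {y : G // y * y = r ∧ IsConj (z k) (y * w)} = (YK.map Prod.snd).count k := by
  classical
  -- the list contains all roots
  have hall : ∀ y : G, y * y = r → y ∈ YK.map Prod.fst := by
    have hsub : (YK.map Prod.fst).toFinset ⊆ Finset.univ.filter fun y : G => y * y = r := by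
      intro y hy
      rw [List.mem_toFinset, List.mem_map] at hy
      obtain ⟨t, ht, rfl⟩ := hy
      rw [Finset.mem_filter]
      exact ⟨Finset.mem_univ _, (hYK t ht).1⟩
    have hcard : (Finset.univ.filter fun y : G => y * y = r).card ≤ (YK.map Prod.fst).toFinset.card := by
      rw [List.toFinset_card_of_nodup hnd, List.length_map, ← Fintype.card_subtype,
        ← Nat.card_eq_fintype_card]
      exact hN
    have heq := Finset.eq_of_subset_of_card_le hsub hcard
    intro y hy
    have : y ∈ Finset.univ.filter fun y : G => y * y = r := by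
      rw [Finset.mem_filter]; exact ⟨Finset.mem_univ _, hy⟩
    rw [← heq, List.mem_toFinset] at this
    exact this
  rw [Nat.card_eq_fintype_card, Fintype.card_subtype]
  have hset : (Finset.univ.filter fun y : G => y * y = r ∧ IsConj (z k) (y * w)) =
      ((YK.filter fun t => t.2 = k).map Prod.fst).toFinset := by
    ext y
    rw [Finset.mem_filter, List.mem_toFinset, List.mem_map]
    constructor
    · rintro ⟨-, hy, hconj⟩
      have := hall y hy
      rw [List.mem_map] at this
      obtain ⟨t, ht, rfl⟩ := this
      refine ⟨t, ?_, rfl⟩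
      rw [List.mem_filter]
      refine ⟨ht, ?_⟩
      have h2 := hYK t ht
      have := hdisj t.2 h2.2.1 k hk (h2.2.2.trans hconj.symm)
      simpa using this
    · rintro ⟨t, ht, rfl⟩
      rw [List.mem_filter] at ht
      have h2 := hYK t ht.1
      have hk' : t.2 = k := by simpa using ht.2
      rw [hk'] at h2
      exact ⟨Finset.mem_univ _, h2.1, h2.2.2⟩
  rw [hset, List.toFinset_card_of_nodup, List.length_map, ← List.countP_eq_length_filter,
    List.count, List.countP_map]
  · rfl
  · exact hnd.sublist (List.filter_sublist.map _)

end Cfsg.Agent.Lib.Helper4.Blk
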