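import Mathlib
import Cfsg.Agent.Lib.Helper4.Blk.Chain
import Cfsg.Agent.Lib.Helper4.Blk.Cls

set_option autoImplicit false

/-! Lists of square roots with conjugators to the class representatives, checked on codes. -/

namespace Cfsg.Agent.Lib.Helper4.Blk

open Cfsg Cfsg.Agent.Lib.Helper3.Golay

/-- strictly increasing -/
def incB : List ℕ → Bool
  | [] => true
  | [_] => true
  | a :: b :: l => Nat.blt a b && incB (b :: l)

theorem incB_lt : ∀ (l : List ℕ) (a : ℕ), incB (a :: l) = true → ∀ x ∈ l, a < x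
  | [], _, _ => by simp
  | b :: l, a, h => by
    rw [incB, Bool.and_eq_true] at h
    have hab : a < b := by
      have := h.1
      simpa [Nat.blt] using this
    intro x hx
    rcases List.mem_cons.mp hx with rfl | hx
    · exact hab
    · exact lt_trans hab (incB_lt l b h.2 x hx)

theorem incB_nodup : ∀ (l : List ℕ), incB l = true → l.Nodup
  | [], _ => List.nodup_nil
  | [a], _ => List.nodup_singleton a
  | a :: b :: l, h => by
    have h' := h
    rw [incB, Bool.and_eq_true] at h'
    rw [List.nodup_cons]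
    refine ⟨fun hmem => ?_, incB_nodup (b :: l) h'.2⟩
    exact lt_irrefl a (incB_lt (b :: l) a h a hmem)

/-- the entries `(y, k, g)`, words of a square root `y` of `r` and of `g` with `g * (y * w) = z k * g` -/
def certOK (Cs : List (List ℕ)) (zc : List ℕ) (rc wc : ℕ) (certs : List (ℕ × ℕ × ℕ)) : Bool :=
  certs.all fun t =>
    sqB (cwW Cs t.1) rc && Nat.blt t.2.1 zc.length &&
      Nat.beq (cmp (cwW Cs t.2.2) (cmp (cwW Cs t.1) wc)) (cmp (zc.getD t.2.1 0) (cwW Cs t.2.2))

theorem card_sqrt_class_of_certs {H : Subgroup (Equiv.Perm GolayPt)} [Fintype ↥H] {k0 : ℕ}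
    {Ls : List (List (List ℕ))}
    (hch : chainOK k0 Ls = true) (hH : ∀ w, eltW Ls w ∈ H) (zc : List ℕ) (z : ℕ → ↥H)
    (hz : ∀ k < zc.length, codeOf (z k).1 = zc.getD k 0)
    (hdisj : ∀ k < zc.length, ∀ l < zc.length, IsConj (z k) (z l) → k = l)
    (r w : ↥H) (rc wc : ℕ) (hr : codeOf r.1 = rc) (hw : codeOf w.1 = wc)
    (certs : List (ℕ × ℕ × ℕ)) (hok : certOK (codes Ls) zc rc wc certs = true)
    (hinc : incB (certs.map fun t => cwW (codes Ls) t.1) = true)
    (hN : Nat.card {y : ↥H // y * y = r} ≤ certs.length) (k : ℕ) (hk : k < zc.length) :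
    Nat.card {y : ↥H // y * y = r ∧ IsConj (z k) (y * w)} = (certs.map fun t => t.2.1).count k := by
  let YK : List (↥H × ℕ) := certs.map fun t => (⟨eltW Ls t.1, hH _⟩, t.2.1)
  have h1 : (YK.map Prod.fst).Nodup := by
    have hnd := incB_nodup _ hinc
    have : (YK.map Prod.fst).map (fun y : ↥H => codeOf y.1) = certs.map fun t => cwW (codes Ls) t.1 := by
      rw [List.map_map, List.map_map]
      apply List.map_congr_left
      intro t _
      rw [Function.comp_apply, Function.comp_apply]
      exact codeOf_eltW hch t.1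
    rw [← this] at hnd
    exact List.Nodup.of_map _ hnd
  have h2 : ∀ t ∈ YK, t.1 * t.1 = r ∧ t.2 < zc.length ∧ IsConj (z t.2) (t.1 * w) := by
    intro t ht
    rw [List.mem_map] at ht
    obtain ⟨s, hs, rfl⟩ := ht
    unfold certOK at hok
    rw [List.all_eq_true] at hok
    have := hok s hs
    rw [Bool.and_eq_true, Bool.and_eq_true] at this
    obtain ⟨⟨ha, hb⟩, hc⟩ := this
    have hb' : s.2.1 < zc.length := by simpa [Nat.blt] using hb
    refine ⟨?_, hb', ?_⟩
    · apply Subtype.ext
      rw [← codeOf_eltW hch, ← hr, sqB_iff] at ha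
      exact ha
    · have hc' := Nat.eq_of_beq_eq_true hc
      rw [← codeOf_eltW hch, ← codeOf_eltW hch, ← hw, ← hz _ hb', ← codeOf_mul, ← codeOf_mul,
        ← codeOf_mul] at hc'
      have hc'' := codeOf_injective hc'
      -- `g * (y * w) = z k * g`
      let g : ↥H := ⟨eltW Ls s.2.2, hH _⟩
      have hsemi : g * ((⟨eltW Ls s.1, hH _⟩ : ↥H) * w) = z s.2.1 * g := Subtype.ext hc''
      have : IsConj ((⟨eltW Ls s.1, hH _⟩ : ↥H) * w) (z s.2.1) := by
        rw [isConj_iff]
        exact ⟨g, by rw [hsemi]; group⟩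
      exact this.symm
  have h3 : Nat.card {y : ↥H // y * y = r} ≤ YK.length := by
    rw [List.length_map]; exact hN
  have := card_sqrt_class zc.length z hdisj r w YK h1 h2 h3 k hk
  rw [this, List.map_map]
  rfl

end Cfsg.Agent.Lib.Helper4.Blk
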