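import Mathlib
import Cfsg.Agent.Lib.Helper4.Blk.Cert

set_option autoImplicit false

/-! Centralizer orders, non-conjugacy and numbers of square roots from counts over an enumeration. -/

namespace Cfsg.Agent.Lib.Helper4.Blk

open Cfsg Cfsg.Agent.Lib.Helper3.Golay

variable {H : Subgroup (Equiv.Perm GolayPt)} {E : List (Equiv.Perm GolayPt)} [Fintype ↥H]

theorem card_centralizer_of_count (hE : Enum H E) (a : ↥H) (ac n : ℕ) (ha : codeOf a.1 = ac)
    (hn : (E.countP fun g => cjB (codeOf g) ac ac) = n) :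
    Nat.card (Subgroup.centralizer ({a} : Set ↥H)) = n := by
  classical
  rw [← hn, ← hE.card_filter (fun g : ↥H => g ∈ Subgroup.centralizer ({a} : Set ↥H))
    (fun g => cjB (codeOf g) ac ac), Nat.card_eq_fintype_card, Fintype.card_subtype]
  intro g
  rw [Subgroup.mem_centralizer_singleton_iff, ← ha, cjB_iff]
  constructor
  · intro h; exact congrArg Subtype.val h
  · intro h; exact Subtype.ext h

omit [Fintype ↥H] in
theorem not_isConj_of_count (hE : Enum H E) (a b : ↥H) (ac bc : ℕ) (ha : codeOf a.1 = ac)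
    (hb : codeOf b.1 = bc) (hn : (E.countP fun g => cjB (codeOf g) ac bc) = 0) : ¬ IsConj a b := by
  intro h
  obtain ⟨c, hc⟩ := isConj_iff.mp h
  have h1 : c * a = b * c := by rw [← hc]; group
  have h2 : cjB (codeOf c.1) ac bc = true := by
    rw [← ha, ← hb, cjB_iff]
    exact congrArg Subtype.val h1
  have h3 : 0 < E.countP fun g => cjB (codeOf g) ac bc :=
    List.countP_pos_iff.mpr ⟨c.1, (hE.mem _).mpr c.2, h2⟩
  omega

theorem card_sqrt_of_count (hE : Enum H E) (r : ↥H) (rc n : ℕ) (hr : codeOf r.1 = rc)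
    (hn : (E.countP fun g => sqB (codeOf g) rc) = n) :
    Nat.card {y : ↥H // y * y = r} = n := by
  classical
  rw [← hn, ← hE.card_filter (fun y : ↥H => y * y = r) (fun g => sqB (codeOf g) rc),
    Nat.card_eq_fintype_card, Fintype.card_subtype]
  intro g
  rw [← hr, sqB_iff]
  constructor
  · intro h; exact congrArg Subtype.val h
  · intro h; exact Subtype.ext h

omit [Fintype ↥H] in
theorem pow_eq_one_of_code (a : ↥H) (ac n : ℕ) (ha : codeOf a.1 = ac) (h : powC ac n = idN) : a ^ n = 1 := by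
  apply Subtype.ext
  apply codeOf_injective
  rw [Subgroup.coe_pow, codeOf_pow, ha, h, Subgroup.coe_one, codeOf_one]

omit [Fintype ↥H] in
theorem code_pow (a : ↥H) (ac n : ℕ) (ha : codeOf a.1 = ac) : codeOf (a ^ n).1 = powC ac n := by
  rw [Subgroup.coe_pow, codeOf_pow, ha]

omit [Fintype ↥H] in
theorem code_pow_inv (a : ↥H) (ac n j : ℕ) (ha : codeOf a.1 = ac) (hj : j ≤ n) (h : powC ac n = idN) :
    codeOf ((a ^ j)⁻¹).1 = powC ac (n - j) := by
  have h1 : (a ^ j)⁻¹ = a ^ (n - j) := by
    apply inv_eq_of_mul_eq_one_right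
    rw [← pow_add, Nat.add_sub_cancel' hj]
    exact pow_eq_one_of_code a ac n ha h
  rw [h1, code_pow a ac _ ha]

/-- conjugate elements have centralizers of the same order -/
theorem card_centralizer_congr {G : Type*} [Group G] {a b : G} (h : IsConj a b) :
    Nat.card (Subgroup.centralizer ({a} : Set G)) = Nat.card (Subgroup.centralizer ({b} : Set G)) := by
  obtain ⟨c, hc⟩ := isConj_iff.mp h
  subst hc
  apply Nat.card_congr
  refine
    { toFun := fun x => ⟨c * x * c⁻¹, ?_⟩
      invFun := fun y => ⟨c⁻¹ * y * c, ?_⟩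
      left_inv := fun x => by apply Subtype.ext; simp [mul_assoc]
      right_inv := fun y => by apply Subtype.ext; simp [mul_assoc] }
  · have hx := Subgroup.mem_centralizer_singleton_iff.mp x.2
    apply Subgroup.mem_centralizer_singleton_iff.mpr
    calc c * (x : G) * c⁻¹ * (c * a * c⁻¹) = c * ((x : G) * a) * c⁻¹ := by group
      _ = c * (a * (x : G)) * c⁻¹ := by rw [hx]
      _ = c * a * c⁻¹ * (c * (x : G) * c⁻¹) := by group
  · have hy := Subgroup.mem_centralizer_singleton_iff.mp y.2
    apply Subgroup.mem_centralizer_singleton_iff.mpr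
    calc c⁻¹ * (y : G) * c * a = c⁻¹ * ((y : G) * (c * a * c⁻¹)) * c := by group
      _ = c⁻¹ * ((c * a * c⁻¹) * (y : G)) * c := by rw [hy]
      _ = a * (c⁻¹ * (y : G) * c) := by group

end Cfsg.Agent.Lib.Helper4.Blk
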