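import Mathlib
import Cfsg.Agent.Lib.Helper3.Fus.Groups
import Cfsg.Agent.Lib.Helper4.Blk.Chain
import Cfsg.Agent.Lib.Helper4.Blk.M22Data

set_option autoImplicit false

/-! The enumeration of `M22` by the transversal tables. -/

namespace Cfsg.Agent.Lib.Helper4.Blk.M22

open Cfsg Cfsg.Agent.Lib.Helper3.Golay Cfsg.Agent.Lib.Helper3.Fus Cfsg.Agent.Lib.Helper4.Blk

/-- the levels of tables -/
def LS : List (List (List ℕ)) := [U2T, U3T, U4T, U5T, U6T]

/-- the levels of codes -/
def CS : List (List ℕ) := [U2, U3, U4, U5, U6]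

theorem chain_LS : chainOK 2 LS = true := by decide +kernel

theorem codes_LS : codes LS = CS := by decide +kernel

theorem M22_eq : Cfsg.Spor.M22 = M24 ⊓ fixB 2 := by
  ext g
  rw [mem_M22_iff, mem_M23_iff, Subgroup.mem_inf, mem_fixB]
  constructor
  · rintro ⟨⟨h1, h2⟩, h3⟩
    refine ⟨h1, fun j hj => ?_⟩
    interval_cases j
    · exact h2
    · exact h3
  · intro ⟨h1, h2⟩
    exact ⟨⟨h1, h2 0 (by norm_num)⟩, h2 1 (by norm_num)⟩

theorem length_LS : (LS.map List.length).prod = 443520 := by decide +kernel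

theorem enum22 : Enum Cfsg.Spor.M22 (prodList LS) := by
  rw [M22_eq]
  refine enum_of_chain chain_LS (by norm_num) ?_
  rw [length_LS]
  decide

theorem length_prodList : (prodList LS).length = 443520 := by
  rw [prodList_length, length_LS]

end Cfsg.Agent.Lib.Helper4.Blk.M22
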