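import Mathlib
import Cfsg.Agent.Lib.Helper4.Blk.M22Enum
import Cfsg.Agent.Lib.Helper4.Blk.Cert

set_option autoImplicit false
set_option maxRecDepth 100000

/-! Square roots and conjugators in `M22`, for the representative 1. -/

namespace Cfsg.Agent.Lib.Helper4.Blk.M22

open Cfsg.Agent.Lib.Helper4.Blk

/-- words of the square roots, classes, words of the conjugators -/
def cert1 : List (ℕ × ℕ × ℕ) := [
  (6360564, 5, 7373070), (50740, 5, 7386676), (2136212, 5, 9470227), (12618281, 5, 15373),
  (6331730, 5, 6338100), (49585, 5, 7384482), (6300839, 5, 13716819), (13633763, 5, 13678132),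
  (12651560, 5, 4229331), (12583339, 3, 11577875), (6374702, 3, 4237843), (10520170, 3, 6358323),
  (10568001, 3, 12660915), (1130817, 3, 4209868), (2131571, 3, 15797426), (10559595, 3, 6362531),
  (4234818, 3, 5246995), (14715432, 5, 5313060), (2099555, 5, 1056944), (14759953, 5, 13712803),
  (11536657, 5, 9522515), (4260136, 5, 11603116), (2109490, 5, 7341667), (13700597, 5, 14995),
  (12633653, 5, 9483828), (10524821, 5, 7373075), (40295, 5, 15732036), (3217554, 5, 15743630),
  (14748713, 5, 5277907), (1082990, 3, 68786), (3186242, 3, 4198419), (9520426, 3, 4229619),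
  (7423283, 3, 5286419), (14732931, 5, 6324499), (6366535, 5, 3180755), (5308713, 5, 14683460)]

theorem certOK1 : certOK CS ZC 983549987344740594813603985216310720 984818244535754528103549039458486304 cert1 = true := by
  decide +kernel

theorem certInc1 : incB (cert1.map fun t => cwW CS t.1) = true := by
  decide +kernel

end Cfsg.Agent.Lib.Helper4.Blk.M22
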