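import Mathlib
import Cfsg.Agent.Lib.Helper4.Blk.M22Enum
import Cfsg.Agent.Lib.Helper4.Blk.Cert

set_option autoImplicit false
set_option maxRecDepth 100000

/-! Square roots and conjugators in `M22`, for the representative 11. -/

namespace Cfsg.Agent.Lib.Helper4.Blk.M22

open Cfsg.Agent.Lib.Helper4.Blk

/-- words of the square roots, classes, words of the conjugators -/
def cert11 : List (ℕ × ℕ × ℕ) := [
  (6360564, 3, 13678132), (50740, 8, 5324865), (2136212, 8, 10537106), (12618281, 8, 13711904),
  (6331730, 8, 1082961), (49585, 3, 4229331), (6300839, 3, 4246148), (13633763, 8, 10566894),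
  (12651560, 8, 2105350), (12583339, 11, 12592718), (6374702, 2, 13674944), (10520170, 11, 14689875),
  (10568001, 2, 13709381), (1130817, 2, 12663239), (2131571, 11, 15738446), (10559595, 2, 8464740),
  (4234818, 11, 2131566), (14715432, 8, 8468944), (2099555, 8, 5260384), (14759953, 3, 15740019),
  (11536657, 5, 14683460), (4260136, 5, 6324499), (2109490, 5, 3180755), (13700597, 8, 71808),
  (12633653, 8, 5277868), (10524821, 3, 3147315), (40295, 3, 8458693), (3217554, 8, 10551507),
  (14748713, 8, 6359566), (1082990, 2, 12598688), (3186242, 11, 7378496), (9520426, 11, 1082995),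
  (7423283, 2, 76425), (14732931, 5, 9522515), (6366535, 5, 11603116), (5308713, 5, 7341667)]

theorem certOK11 : certOK CS ZC 983549987344740594813603985216310720 983550219647975536827639169912604000 cert11 = true := by
  decide +kernel

theorem certInc11 : incB (cert11.map fun t => cwW CS t.1) = true := by
  decide +kernel

end Cfsg.Agent.Lib.Helper4.Blk.M22
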