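import Mathlib
import Cfsg.Agent.Lib.Helper4.Blk.M22Enum
import Cfsg.Agent.Lib.Helper4.Blk.Cert

set_option autoImplicit false
set_option maxRecDepth 100000

/-! Square roots and conjugators in `M22`, for the representative 8. -/

namespace Cfsg.Agent.Lib.Helper4.Blk.M22

open Cfsg.Agent.Lib.Helper4.Blk

/-- words of the square roots, classes, words of the conjugators -/
def cert8 : List (ℕ × ℕ × ℕ) := [
  ]

theorem certOK8 : certOK CS ZC 962141165814749290801629538497707072 984818244535754528103549039458486304 cert8 = true := by
  decide +kernel

theorem certInc8 : incB (cert8.map fun t => cwW CS t.1) = true := by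
  decide +kernel

end Cfsg.Agent.Lib.Helper4.Blk.M22
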