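import Mathlib

set_option autoImplicit false

/-!
# Counting solutions of `x * y = z` with `x, y` in a conjugation invariant set, modulo 2

For a conjugation invariant predicate `P` on a finite group and an element `z` whose order divides
`(2 j + 1) 2 ^ a`, the number of `x` with `P x` and `P (x⁻¹ z)` is congruent modulo 2 to the number of
`y` with `y * y = z ^ (2 j + 1)` and `P (y z⁻ʲ)`: the map `x ↦ z⁻ʲ x⁻¹ zʲ⁺¹` permutes the solutions, its
order is a power of 2, and its fixed points are the `x = y z⁻ʲ`.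
-/

namespace Cfsg.Agent.Lib.Helper4.Blk

variable {G : Type*} [Group G]

/-- the twisting permutation `x ↦ z⁻ʲ x⁻¹ zʲ⁺¹` -/
def twist (z : G) (j : ℕ) : Equiv.Perm G where
  toFun x := (z ^ j)⁻¹ * x⁻¹ * z ^ (j + 1)
  invFun y := z ^ (j + 1) * y⁻¹ * (z ^ j)⁻¹
  left_inv x := by group
  right_inv y := by group

theorem twist_apply (z : G) (j : ℕ) (x : G) : twist z j x = (z ^ j)⁻¹ * x⁻¹ * z ^ (j + 1) := rfl

theorem twist_symm_apply (z : G) (j : ℕ) (y : G) :
    (twist z j).symm y = z ^ (j + 1) * y⁻¹ * (z ^ j)⁻¹ := rfl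

theorem twist_twist (z : G) (j : ℕ) (x : G) :
    twist z j (twist z j x) = (z ^ (2 * j + 1))⁻¹ * x * z ^ (2 * j + 1) := by
  rw [twist_apply, twist_apply]
  have h1 : z ^ (2 * j + 1) = z ^ j * z ^ (j + 1) := by rw [← pow_add]; congr 1; omega
  rw [h1]
  group

theorem twist_pow_two_mul (z : G) (j : ℕ) (n : ℕ) (x : G) :
    (twist z j ^ (2 * n)) x = ((z ^ (2 * j + 1)) ^ n)⁻¹ * x * (z ^ (2 * j + 1)) ^ n := by
  induction n generalizing x with
  | zero => simp
  | succ n ih =>
    rw [show 2 * (n + 1) = 2 * n + 1 + 1 by ring, pow_succ, pow_succ, Equiv.Perm.mul_apply,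
      Equiv.Perm.mul_apply, twist_twist, ih, pow_succ]
    group

theorem twist_pow_eq_one (z : G) (j a : ℕ) (hz : z ^ ((2 * j + 1) * 2 ^ a) = 1) :
    twist z j ^ 2 ^ (a + 1) = 1 := by
  ext x
  rw [show 2 ^ (a + 1) = 2 * 2 ^ a by ring, twist_pow_two_mul, ← pow_mul, hz]
  simp

variable [Fintype G] [DecidableEq G]

theorem card_pairs_modEq (P : G → Prop) [DecidablePred P] (hP : ∀ h x, P (h * x * h⁻¹) ↔ P x)
    (z : G) (j a : ℕ) (hz : z ^ ((2 * j + 1) * 2 ^ a) = 1) :
    (Finset.univ.filter (fun x : G => P x ∧ P (x⁻¹ * z))).card ≡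
      (Finset.univ.filter (fun y : G => y * y = z ^ (2 * j + 1) ∧ P (y * (z ^ j)⁻¹))).card
        [MOD 2] := by
  classical
  set Q : G → Prop := fun x => P x ∧ P (x⁻¹ * z) with hQ
  have hfw : ∀ x, Q x → Q (twist z j x) := by
    rintro x ⟨h1, h2⟩
    refine ⟨?_, ?_⟩
    · have : twist z j x = (z ^ j)⁻¹ * (x⁻¹ * z) * ((z ^ j)⁻¹)⁻¹ := by
        rw [twist_apply, pow_succ']; group
      rw [this, hP]; exact h2
    · have : (twist z j x)⁻¹ * z = (z ^ (j + 1))⁻¹ * x * ((z ^ (j + 1))⁻¹)⁻¹ := by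
        rw [twist_apply, pow_succ]; group
      rw [this, hP]; exact h1
  have hbw : ∀ x, Q x → Q ((twist z j).symm x) := by
    rintro x ⟨h1, h2⟩
    refine ⟨?_, ?_⟩
    · have : (twist z j).symm x = z ^ (j + 1) * (x⁻¹ * z) * (z ^ (j + 1))⁻¹ := by
        rw [twist_symm_apply, pow_succ]; group
      rw [this, hP]; exact h2
    · have : ((twist z j).symm x)⁻¹ * z = z ^ j * x * (z ^ j)⁻¹ := by
        rw [twist_symm_apply, pow_succ]; group
      rw [this, hP]; exact h1
  have hiff : ∀ x, Q x ↔ Q (twist z j x) := by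
    intro x
    refine ⟨hfw x, fun h => ?_⟩
    have := hbw _ h
    rwa [Equiv.symm_apply_apply] at this
  set σ : Equiv.Perm {x // Q x} := (twist z j).subtypePerm (fun x => (hiff x).symm) with hσdef
  have hσ : σ ^ 2 ^ (a + 1) = 1 := by
    rw [hσdef, Equiv.Perm.subtypePerm_pow]
    ext x
    simp only [Equiv.Perm.subtypePerm_apply, Equiv.Perm.coe_one, id_eq]
    rw [twist_pow_eq_one z j a hz]
    rfl
  have hmod := Equiv.Perm.card_compl_support_modEq (p := 2) hσ
  have h1 : Fintype.card {x // Q x} = (Finset.univ.filter (fun x : G => P x ∧ P (x⁻¹ * z))).card := by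
    rw [Fintype.card_subtype]
  rw [← h1]
  refine hmod.symm.trans ?_
  -- fixed points
  have h2 : σ.supportᶜ.card =
      (Finset.univ.filter (fun y : G => y * y = z ^ (2 * j + 1) ∧ P (y * (z ^ j)⁻¹))).card := by
    apply Finset.card_bij (fun (x : {x // Q x}) _ => (x : G) * z ^ j)
    · intro x hx
      rw [Finset.mem_compl, Equiv.Perm.mem_support, not_not] at hx
      have hx' : twist z j (x : G) = (x : G) := by
        have := congrArg Subtype.val hx
        simpa [hσdef] using this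
      rw [twist_apply] at hx'
      rw [Finset.mem_filter]
      refine ⟨Finset.mem_univ _, ?_, ?_⟩
      · have e1 : (x : G)⁻¹ * z ^ (j + 1) = z ^ j * (x : G) := by
          calc (x : G)⁻¹ * z ^ (j + 1) = z ^ j * ((z ^ j)⁻¹ * (x : G)⁻¹ * z ^ (j + 1)) := by group
            _ = z ^ j * (x : G) := by rw [hx']
        have e2 : z ^ (j + 1) = (x : G) * z ^ j * (x : G) := by
          rw [mul_assoc, ← e1]; group
        have e3 : z ^ (2 * j + 1) = z ^ (j + 1) * z ^ j := by rw [← pow_add]; congr 1; omega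
        rw [e3, e2]; group
      · rw [mul_inv_cancel_right]; exact x.2.1
    · intro x _ y _ h
      exact Subtype.ext (mul_right_cancel h)
    · intro y hy
      rw [Finset.mem_filter] at hy
      obtain ⟨-, hy1, hy2⟩ := hy
      have hfix : twist z j (y * (z ^ j)⁻¹) = y * (z ^ j)⁻¹ := by
        rw [twist_apply]
        have e3 : z ^ (2 * j + 1) = z ^ (j + 1) * z ^ j := by rw [← pow_add]; congr 1; omega
        have e4 : z ^ (j + 1) = y * y * (z ^ j)⁻¹ := by rw [hy1, e3]; group
        rw [e4]; group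
      have hQy : Q (y * (z ^ j)⁻¹) := by
        refine ⟨hy2, ?_⟩
        have e5 : (y * (z ^ j)⁻¹)⁻¹ * z = z ^ j * (y * (z ^ j)⁻¹) * (z ^ j)⁻¹ := by
          have := hfix
          rw [twist_apply, pow_succ] at this
          have e6 : (y * (z ^ j)⁻¹)⁻¹ * z = z ^ j * ((z ^ j)⁻¹ * (y * (z ^ j)⁻¹)⁻¹ * (z ^ j * z)) * (z ^ j)⁻¹ := by
            group
          rw [e6, this]
        rw [e5, hP]; exact hy2
      refine ⟨⟨y * (z ^ j)⁻¹, hQy⟩, ?_, ?_⟩
      · rw [Finset.mem_compl, Equiv.Perm.mem_support, not_not]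
        apply Subtype.ext
        simpa [hσdef] using hfix
      · simp
  rw [h2]

end Cfsg.Agent.Lib.Helper4.Blk
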