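import Mathlib
import Cfsg.Agent.Lib.Helper3.OutAut.M22
import Cfsg.Agent.Lib.Helper4.Blk.M22Counts
import Cfsg.Agent.Lib.Helper4.Blk.M22Cert0
import Cfsg.Agent.Lib.Helper4.Blk.M22Cert1
import Cfsg.Agent.Lib.Helper4.Blk.M22Cert2
import Cfsg.Agent.Lib.Helper4.Blk.M22Cert3
import Cfsg.Agent.Lib.Helper4.Blk.M22Cert4
import Cfsg.Agent.Lib.Helper4.Blk.M22Cert5
import Cfsg.Agent.Lib.Helper4.Blk.M22Cert6
import Cfsg.Agent.Lib.Helper4.Blk.M22Cert7
import Cfsg.Agent.Lib.Helper4.Blk.M22Cert8
import Cfsg.Agent.Lib.Helper4.Blk.M22Cert9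
import Cfsg.Agent.Lib.Helper4.Blk.M22Cert10
import Cfsg.Agent.Lib.Helper4.Blk.M22Cert11
import Cfsg.Agent.Lib.Helper4.Blk.Count
import Cfsg.Agent.Lib.Helper4.Blk.PhiTrick

set_option autoImplicit false
set_option maxRecDepth 100000

/-! All irreducible characters of `M22` lie in one 2-block. -/

namespace Cfsg.Agent.Lib.Helper4.Blk.M22

open Cfsg Cfsg.Agent.Lib.Helper3.Golay Cfsg.Agent.Lib.Helper3.OutAut Cfsg.Agent.Lib.Helper4.Blk

theorem counts_and :
    ((prodList LS).countP fun a => cjB (codeOf a) 983549987344740594813603985216310720 983549987344740594813603985216310720) = 384 ∧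
    ((prodList LS).countP fun a => cjB (codeOf a) 961409415667826064667231448532617248 961409415667826064667231448532617248) = 36 ∧
    ((prodList LS).countP fun a => cjB (codeOf a) 973970792660502034490951479562733600 973970792660502034490951479562733600) = 32 ∧
    ((prodList LS).countP fun a => cjB (codeOf a) 967768981687868742388307053739378720 967768981687868742388307053739378720) = 5 ∧
    ((prodList LS).countP fun a => cjB (codeOf a) 960096114190174093962263871970478112 960096114190174093962263871970478112) = 16 ∧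
    ((prodList LS).countP fun a => cjB (codeOf a) 965174050694431159680925848608017440 965174050694431159680925848608017440) = 7 ∧
    ((prodList LS).countP fun a => cjB (codeOf a) 971293318299425534096312516345170976 971293318299425534096312516345170976) = 7 ∧
    ((prodList LS).countP fun a => cjB (codeOf a) 962141165814749290801629538497707072 962141165814749290801629538497707072) = 8 ∧
    ((prodList LS).countP fun a => cjB (codeOf a) 974389822388384561003210687310576704 974389822388384561003210687310576704) = 11 ∧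
    ((prodList LS).countP fun a => cjB (codeOf a) 957195937014898759761606554012728384 957195937014898759761606554012728384) = 11 ∧
    ((prodList LS).countP fun a => cjB (codeOf a) 983550147876907063786527030524623936 983550147876907063786527030524623936) = 12 ∧
    ((prodList LS).countP fun a => cjB (codeOf a) 965174050694431159680925848608017440 971293318299425534096312516345170976) = 0 ∧
    ((prodList LS).countP fun a => cjB (codeOf a) 974389822388384561003210687310576704 957195937014898759761606554012728384) = 0 ∧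
    ((prodList LS).countP fun a => sqB (codeOf a) idN) = 1156 ∧
    ((prodList LS).countP fun a => sqB (codeOf a) 983549987344740594813603985216310720) = 36 ∧
    ((prodList LS).countP fun a => sqB (codeOf a) 973970792660502034490951479562733600) = 4 ∧
    ((prodList LS).countP fun a => sqB (codeOf a) 960096114190174093962263871970478112) = 0 ∧
    ((prodList LS).countP fun a => sqB (codeOf a) 962141165814749290801629538497707072) = 0 := by
  have h := counts
  simp only [PS, NS, List.map_cons, List.map_nil, List.cons.injEq, and_true] at h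
  exact h

noncomputable local instance instFintypeM22 : Fintype ↥Cfsg.Spor.M22 := Fintype.ofFinite _

theorem eltW_mem22 (w : ℕ) : eltW LS w ∈ Cfsg.Spor.M22 := by
  rw [M22_eq]; exact eltW_mem chain_LS w

/-- the class representatives -/
noncomputable def z (k : ℕ) : ↥Cfsg.Spor.M22 := ⟨eltW LS (ZW.getD k 0), eltW_mem22 _⟩

theorem code_zw : ∀ k < 12, cwW CS (ZW.getD k 0) = ZC.getD k 0 := by decide +kernel

theorem code_z (k : ℕ) (hk : k < ZC.length) : codeOf (z k).1 = ZC.getD k 0 := by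
  show codeOf (eltW LS (ZW.getD k 0)) = _
  rw [codeOf_eltW chain_LS, codes_LS]
  exact code_zw k hk

theorem z_zero : z 0 = 1 := by
  apply Subtype.ext
  apply codeOf_injective
  rw [code_z 0 (by decide), Subgroup.coe_one, codeOf_one]
  decide +kernel

theorem card22 : Fintype.card ↥Cfsg.Spor.M22 = 443520 := by
  rw [← Nat.card_eq_fintype_card, Cfsg.Agent.Lib.Helper3.OutM22.card_M22]

/-- the centralizer orders -/
def CO : List ℕ := [443520, 384, 36, 32, 5, 16, 7, 7, 8, 11, 11, 12]

theorem hcent : ∀ k < 12, Nat.card (Subgroup.centralizer ({z k} : Set ↥Cfsg.Spor.M22)) = CO.getD k 0 := by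
  intro k hk
  interval_cases k
  · rw [z_zero]
    have : Subgroup.centralizer ({(1 : ↥Cfsg.Spor.M22)} : Set ↥Cfsg.Spor.M22) = ⊤ := by
      rw [Subgroup.centralizer_eq_top_iff_subset]
      intro x hx
      rw [Set.mem_singleton_iff] at hx
      rw [hx]
      exact Subgroup.one_mem _
    rw [this, Subgroup.card_top, Cfsg.Agent.Lib.Helper3.OutM22.card_M22]
    rfl

  · exact card_centralizer_of_count enum22 (z 1) _ _ (code_z 1 (by decide)) counts_and.1
  · exact card_centralizer_of_count enum22 (z 2) _ _ (code_z 2 (by decide)) counts_and.2.1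
  · exact card_centralizer_of_count enum22 (z 3) _ _ (code_z 3 (by decide)) counts_and.2.2.1
  · exact card_centralizer_of_count enum22 (z 4) _ _ (code_z 4 (by decide)) counts_and.2.2.2.1
  · exact card_centralizer_of_count enum22 (z 5) _ _ (code_z 5 (by decide)) counts_and.2.2.2.2.1
  · exact card_centralizer_of_count enum22 (z 6) _ _ (code_z 6 (by decide)) counts_and.2.2.2.2.2.1
  · exact card_centralizer_of_count enum22 (z 7) _ _ (code_z 7 (by decide)) counts_and.2.2.2.2.2.2.1
  · exact card_centralizer_of_count enum22 (z 8) _ _ (code_z 8 (by decide)) counts_and.2.2.2.2.2.2.2.1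
  · exact card_centralizer_of_count enum22 (z 9) _ _ (code_z 9 (by decide)) counts_and.2.2.2.2.2.2.2.2.1
  · exact card_centralizer_of_count enum22 (z 10) _ _ (code_z 10 (by decide)) counts_and.2.2.2.2.2.2.2.2.2.1
  · exact card_centralizer_of_count enum22 (z 11) _ _ (code_z 11 (by decide)) counts_and.2.2.2.2.2.2.2.2.2.2.1

set_option synthInstance.maxSize 2000 in
theorem hdisj : ∀ k < ZC.length, ∀ l < ZC.length, IsConj (z k) (z l) → k = l := by
  intro k hk l hl h
  have hk' : k < 12 := hk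
  have hl' : l < 12 := hl
  have h1 := card_centralizer_congr h
  rw [hcent k hk', hcent l hl'] at h1
  have key : ∀ k < 12, ∀ l < 12, CO.getD k 0 = CO.getD l 0 →
      k = l ∨ (k = 6 ∧ l = 7) ∨ (k = 7 ∧ l = 6) ∨ (k = 9 ∧ l = 10) ∨ (k = 10 ∧ l = 9) := by decide
  rcases key k hk' l hl' h1 with h2 | ⟨rfl, rfl⟩ | ⟨rfl, rfl⟩ | ⟨rfl, rfl⟩ | ⟨rfl, rfl⟩
  · exact h2
  · exact absurd h (not_isConj_of_count enum22 (z 6) (z 7) _ _ (code_z 6 (by decide)) (code_z 7 (by decide))
      counts_and.2.2.2.2.2.2.2.2.2.2.2.1)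
  · exact absurd h.symm (not_isConj_of_count enum22 (z 6) (z 7) _ _ (code_z 6 (by decide))
      (code_z 7 (by decide)) counts_and.2.2.2.2.2.2.2.2.2.2.2.1)
  · exact absurd h (not_isConj_of_count enum22 (z 9) (z 10) _ _ (code_z 9 (by decide))
      (code_z 10 (by decide)) counts_and.2.2.2.2.2.2.2.2.2.2.2.2.1)
  · exact absurd h.symm (not_isConj_of_count enum22 (z 9) (z 10) _ _ (code_z 9 (by decide))
      (code_z 10 (by decide)) counts_and.2.2.2.2.2.2.2.2.2.2.2.2.1)

theorem hcomp : ∀ g : ↥Cfsg.Spor.M22, ∃ k < 12, IsConj (z k) g := by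
  refine classes_complete 12 z CO hcent hdisj ?_
  rw [card22]
  decide

theorem pow_checks : ∀ l < 12, powC (ZC.getD l 0) (NL.getD l 0) = idN ∧
    powC (ZC.getD l 0) (2 * JL.getD l 0 + 1) = RC.getD l 0 ∧
    powC (ZC.getD l 0) (NL.getD l 0 - JL.getD l 0) = WC.getD l 0 ∧
    (2 * JL.getD l 0 + 1) * 2 ^ AL.getD l 0 = NL.getD l 0 ∧ JL.getD l 0 ≤ NL.getD l 0 := by
  decide +kernel

/-- the odd part power of the representative -/
noncomputable def rr (l : ℕ) : ↥Cfsg.Spor.M22 := z l ^ (2 * JL.getD l 0 + 1)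

/-- the inverse of the power `j` of the representative -/
noncomputable def ww (l : ℕ) : ↥Cfsg.Spor.M22 := (z l ^ JL.getD l 0)⁻¹

theorem code_rr (l : ℕ) (hl : l < 12) : codeOf (rr l).1 = RC.getD l 0 := by
  unfold rr
  rw [code_pow (z l) _ _ (code_z l hl), (pow_checks l hl).2.1]

theorem code_ww (l : ℕ) (hl : l < 12) : codeOf (ww l).1 = WC.getD l 0 := by
  unfold ww
  rw [code_pow_inv (z l) _ (NL.getD l 0) _ (code_z l hl) (pow_checks l hl).2.2.2.2 (pow_checks l hl).1,
    (pow_checks l hl).2.2.1]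

theorem pc_mod (k l : ℕ) (hl : l < 12) :
    pairCount (z k) (z l) ≡ Nat.card {y : ↥Cfsg.Spor.M22 // y * y = rr l ∧ IsConj (z k) (y * ww l)} [MOD 2] := by
  classical
  have hz : z l ^ ((2 * JL.getD l 0 + 1) * 2 ^ AL.getD l 0) = 1 := by
    rw [(pow_checks l hl).2.2.2.1]
    exact pow_eq_one_of_code (z l) _ _ (code_z l hl) (pow_checks l hl).1
  have := card_pairs_modEq (fun x : ↥Cfsg.Spor.M22 => IsConj (z k) x)
    (fun h x => by
      constructor
      · intro hx
        exact hx.trans (isConj_iff.mpr ⟨h⁻¹, by group⟩)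
      · intro hx
        exact hx.trans (isConj_iff.mpr ⟨h, rfl⟩))
    (z l) (JL.getD l 0) (AL.getD l 0) hz
  unfold pairCount
  rw [Nat.card_eq_fintype_card, Fintype.card_subtype, Nat.card_eq_fintype_card, Fintype.card_subtype]
  exact this

theorem sqrt_0 (k : ℕ) (hk : k < 12) :
    Nat.card {y : ↥Cfsg.Spor.M22 // y * y = rr 0 ∧ IsConj (z k) (y * ww 0)} = (cert0.map fun t => t.2.1).count k := by
  have hN : Nat.card {y : ↥Cfsg.Spor.M22 // y * y = rr 0} ≤ cert0.length := by
    rw [card_sqrt_of_count enum22 (rr 0) _ _ (code_rr 0 (by decide)) counts_and.2.2.2.2.2.2.2.2.2.2.2.2.2.1]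
    decide
  exact card_sqrt_class_of_certs chain_LS eltW_mem22 ZC z code_z hdisj (rr 0) (ww 0) _ _
    (code_rr 0 (by decide)) (code_ww 0 (by decide)) cert0 (by rw [codes_LS]; exact certOK0)
    (by rw [codes_LS]; exact certInc0) hN k hk

theorem sqrt_1 (k : ℕ) (hk : k < 12) :
    Nat.card {y : ↥Cfsg.Spor.M22 // y * y = rr 1 ∧ IsConj (z k) (y * ww 1)} = (cert1.map fun t => t.2.1).count k := by
  have hN : Nat.card {y : ↥Cfsg.Spor.M22 // y * y = rr 1} ≤ cert1.length := by
    rw [card_sqrt_of_count enum22 (rr 1) _ _ (code_rr 1 (by decide)) counts_and.2.2.2.2.2.2.2.2.2.2.2.2.2.2.1]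
    decide
  exact card_sqrt_class_of_certs chain_LS eltW_mem22 ZC z code_z hdisj (rr 1) (ww 1) _ _
    (code_rr 1 (by decide)) (code_ww 1 (by decide)) cert1 (by rw [codes_LS]; exact certOK1)
    (by rw [codes_LS]; exact certInc1) hN k hk

theorem sqrt_2 (k : ℕ) (hk : k < 12) :
    Nat.card {y : ↥Cfsg.Spor.M22 // y * y = rr 2 ∧ IsConj (z k) (y * ww 2)} = (cert2.map fun t => t.2.1).count k := by
  have hN : Nat.card {y : ↥Cfsg.Spor.M22 // y * y = rr 2} ≤ cert2.length := by
    rw [card_sqrt_of_count enum22 (rr 2) _ _ (code_rr 2 (by decide)) counts_and.2.2.2.2.2.2.2.2.2.2.2.2.2.1]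
    decide
  exact card_sqrt_class_of_certs chain_LS eltW_mem22 ZC z code_z hdisj (rr 2) (ww 2) _ _
    (code_rr 2 (by decide)) (code_ww 2 (by decide)) cert2 (by rw [codes_LS]; exact certOK2)
    (by rw [codes_LS]; exact certInc2) hN k hk

theorem sqrt_3 (k : ℕ) (hk : k < 12) :
    Nat.card {y : ↥Cfsg.Spor.M22 // y * y = rr 3 ∧ IsConj (z k) (y * ww 3)} = (cert3.map fun t => t.2.1).count k := by
  have hN : Nat.card {y : ↥Cfsg.Spor.M22 // y * y = rr 3} ≤ cert3.length := by
    rw [card_sqrt_of_count enum22 (rr 3) _ _ (code_rr 3 (by decide)) counts_and.2.2.2.2.2.2.2.2.2.2.2.2.2.2.2.1]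
    decide
  exact card_sqrt_class_of_certs chain_LS eltW_mem22 ZC z code_z hdisj (rr 3) (ww 3) _ _
    (code_rr 3 (by decide)) (code_ww 3 (by decide)) cert3 (by rw [codes_LS]; exact certOK3)
    (by rw [codes_LS]; exact certInc3) hN k hk

theorem sqrt_4 (k : ℕ) (hk : k < 12) :
    Nat.card {y : ↥Cfsg.Spor.M22 // y * y = rr 4 ∧ IsConj (z k) (y * ww 4)} = (cert4.map fun t => t.2.1).count k := by
  have hN : Nat.card {y : ↥Cfsg.Spor.M22 // y * y = rr 4} ≤ cert4.length := by
    rw [card_sqrt_of_count enum22 (rr 4) _ _ (code_rr 4 (by decide)) counts_and.2.2.2.2.2.2.2.2.2.2.2.2.2.1]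
    decide
  exact card_sqrt_class_of_certs chain_LS eltW_mem22 ZC z code_z hdisj (rr 4) (ww 4) _ _
    (code_rr 4 (by decide)) (code_ww 4 (by decide)) cert4 (by rw [codes_LS]; exact certOK4)
    (by rw [codes_LS]; exact certInc4) hN k hk

theorem sqrt_5 (k : ℕ) (hk : k < 12) :
    Nat.card {y : ↥Cfsg.Spor.M22 // y * y = rr 5 ∧ IsConj (z k) (y * ww 5)} = (cert5.map fun t => t.2.1).count k := by
  have hN : Nat.card {y : ↥Cfsg.Spor.M22 // y * y = rr 5} ≤ cert5.length := by
    rw [card_sqrt_of_count enum22 (rr 5) _ _ (code_rr 5 (by decide)) counts_and.2.2.2.2.2.2.2.2.2.2.2.2.2.2.2.2.1]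
    decide
  exact card_sqrt_class_of_certs chain_LS eltW_mem22 ZC z code_z hdisj (rr 5) (ww 5) _ _
    (code_rr 5 (by decide)) (code_ww 5 (by decide)) cert5 (by rw [codes_LS]; exact certOK5)
    (by rw [codes_LS]; exact certInc5) hN k hk

theorem sqrt_6 (k : ℕ) (hk : k < 12) :
    Nat.card {y : ↥Cfsg.Spor.M22 // y * y = rr 6 ∧ IsConj (z k) (y * ww 6)} = (cert6.map fun t => t.2.1).count k := by
  have hN : Nat.card {y : ↥Cfsg.Spor.M22 // y * y = rr 6} ≤ cert6.length := by
    rw [card_sqrt_of_count enum22 (rr 6) _ _ (code_rr 6 (by decide)) counts_and.2.2.2.2.2.2.2.2.2.2.2.2.2.1]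
    decide
  exact card_sqrt_class_of_certs chain_LS eltW_mem22 ZC z code_z hdisj (rr 6) (ww 6) _ _
    (code_rr 6 (by decide)) (code_ww 6 (by decide)) cert6 (by rw [codes_LS]; exact certOK6)
    (by rw [codes_LS]; exact certInc6) hN k hk

theorem sqrt_7 (k : ℕ) (hk : k < 12) :
    Nat.card {y : ↥Cfsg.Spor.M22 // y * y = rr 7 ∧ IsConj (z k) (y * ww 7)} = (cert7.map fun t => t.2.1).count k := by
  have hN : Nat.card {y : ↥Cfsg.Spor.M22 // y * y = rr 7} ≤ cert7.length := by
    rw [card_sqrt_of_count enum22 (rr 7) _ _ (code_rr 7 (by decide)) counts_and.2.2.2.2.2.2.2.2.2.2.2.2.2.1]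
    decide
  exact card_sqrt_class_of_certs chain_LS eltW_mem22 ZC z code_z hdisj (rr 7) (ww 7) _ _
    (code_rr 7 (by decide)) (code_ww 7 (by decide)) cert7 (by rw [codes_LS]; exact certOK7)
    (by rw [codes_LS]; exact certInc7) hN k hk

theorem sqrt_8 (k : ℕ) (hk : k < 12) :
    Nat.card {y : ↥Cfsg.Spor.M22 // y * y = rr 8 ∧ IsConj (z k) (y * ww 8)} = (cert8.map fun t => t.2.1).count k := by
  have hN : Nat.card {y : ↥Cfsg.Spor.M22 // y * y = rr 8} ≤ cert8.length := by
    rw [card_sqrt_of_count enum22 (rr 8) _ _ (code_rr 8 (by decide)) counts_and.2.2.2.2.2.2.2.2.2.2.2.2.2.2.2.2.2]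
    decide
  exact card_sqrt_class_of_certs chain_LS eltW_mem22 ZC z code_z hdisj (rr 8) (ww 8) _ _
    (code_rr 8 (by decide)) (code_ww 8 (by decide)) cert8 (by rw [codes_LS]; exact certOK8)
    (by rw [codes_LS]; exact certInc8) hN k hk

theorem sqrt_9 (k : ℕ) (hk : k < 12) :
    Nat.card {y : ↥Cfsg.Spor.M22 // y * y = rr 9 ∧ IsConj (z k) (y * ww 9)} = (cert9.map fun t => t.2.1).count k := by
  have hN : Nat.card {y : ↥Cfsg.Spor.M22 // y * y = rr 9} ≤ cert9.length := by
    rw [card_sqrt_of_count enum22 (rr 9) _ _ (code_rr 9 (by decide)) counts_and.2.2.2.2.2.2.2.2.2.2.2.2.2.1]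
    decide
  exact card_sqrt_class_of_certs chain_LS eltW_mem22 ZC z code_z hdisj (rr 9) (ww 9) _ _
    (code_rr 9 (by decide)) (code_ww 9 (by decide)) cert9 (by rw [codes_LS]; exact certOK9)
    (by rw [codes_LS]; exact certInc9) hN k hk

theorem sqrt_10 (k : ℕ) (hk : k < 12) :
    Nat.card {y : ↥Cfsg.Spor.M22 // y * y = rr 10 ∧ IsConj (z k) (y * ww 10)} = (cert10.map fun t => t.2.1).count k := by
  have hN : Nat.card {y : ↥Cfsg.Spor.M22 // y * y = rr 10} ≤ cert10.length := by
    rw [card_sqrt_of_count enum22 (rr 10) _ _ (code_rr 10 (by decide)) counts_and.2.2.2.2.2.2.2.2.2.2.2.2.2.1]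
    decide
  exact card_sqrt_class_of_certs chain_LS eltW_mem22 ZC z code_z hdisj (rr 10) (ww 10) _ _
    (code_rr 10 (by decide)) (code_ww 10 (by decide)) cert10 (by rw [codes_LS]; exact certOK10)
    (by rw [codes_LS]; exact certInc10) hN k hk

theorem sqrt_11 (k : ℕ) (hk : k < 12) :
    Nat.card {y : ↥Cfsg.Spor.M22 // y * y = rr 11 ∧ IsConj (z k) (y * ww 11)} = (cert11.map fun t => t.2.1).count k := by
  have hN : Nat.card {y : ↥Cfsg.Spor.M22 // y * y = rr 11} ≤ cert11.length := by
    rw [card_sqrt_of_count enum22 (rr 11) _ _ (code_rr 11 (by decide)) counts_and.2.2.2.2.2.2.2.2.2.2.2.2.2.2.1]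
    decide
  exact card_sqrt_class_of_certs chain_LS eltW_mem22 ZC z code_z hdisj (rr 11) (ww 11) _ _
    (code_rr 11 (by decide)) (code_ww 11 (by decide)) cert11 (by rw [codes_LS]; exact certOK11)
    (by rw [codes_LS]; exact certInc11) hN k hk

/-- the rows of the squaring map modulo 2 -/
def ROWS : List ℕ := [1, 17, 1536, 16, 0, 0, 0, 0, 0, 0, 0, 1536]

theorem par_0 : ∀ k < 12, (cert0.map fun t => t.2.1).count k % 2 = if (ROWS.getD k 0).testBit 0 then 1 else 0 := by
  decide +kernel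

theorem par_1 : ∀ k < 12, (cert1.map fun t => t.2.1).count k % 2 = if (ROWS.getD k 0).testBit 1 then 1 else 0 := by
  decide +kernel

theorem par_2 : ∀ k < 12, (cert2.map fun t => t.2.1).count k % 2 = if (ROWS.getD k 0).testBit 2 then 1 else 0 := by
  decide +kernel

theorem par_3 : ∀ k < 12, (cert3.map fun t => t.2.1).count k % 2 = if (ROWS.getD k 0).testBit 3 then 1 else 0 := by
  decide +kernel

theorem par_4 : ∀ k < 12, (cert4.map fun t => t.2.1).count k % 2 = if (ROWS.getD k 0).testBit 4 then 1 else 0 := by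
  decide +kernel

theorem par_5 : ∀ k < 12, (cert5.map fun t => t.2.1).count k % 2 = if (ROWS.getD k 0).testBit 5 then 1 else 0 := by
  decide +kernel

theorem par_6 : ∀ k < 12, (cert6.map fun t => t.2.1).count k % 2 = if (ROWS.getD k 0).testBit 6 then 1 else 0 := by
  decide +kernel

theorem par_7 : ∀ k < 12, (cert7.map fun t => t.2.1).count k % 2 = if (ROWS.getD k 0).testBit 7 then 1 else 0 := by
  decide +kernel

theorem par_8 : ∀ k < 12, (cert8.map fun t => t.2.1).count k % 2 = if (ROWS.getD k 0).testBit 8 then 1 else 0 := by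
  decide +kernel

theorem par_9 : ∀ k < 12, (cert9.map fun t => t.2.1).count k % 2 = if (ROWS.getD k 0).testBit 9 then 1 else 0 := by
  decide +kernel

theorem par_10 : ∀ k < 12, (cert10.map fun t => t.2.1).count k % 2 = if (ROWS.getD k 0).testBit 10 then 1 else 0 := by
  decide +kernel

theorem par_11 : ∀ k < 12, (cert11.map fun t => t.2.1).count k % 2 = if (ROWS.getD k 0).testBit 11 then 1 else 0 := by
  decide +kernel

theorem hrows : ∀ k < 12, ∀ l < 12,
    pairCount (z k) (z l) % 2 = if (ROWS.getD k 0).testBit l then 1 else 0 := by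
  intro k hk l hl
  have h := pc_mod k l hl
  unfold Nat.ModEq at h
  rw [h]
  interval_cases l
  · rw [sqrt_0 k hk]; exact par_0 k hk
  · rw [sqrt_1 k hk]; exact par_1 k hk
  · rw [sqrt_2 k hk]; exact par_2 k hk
  · rw [sqrt_3 k hk]; exact par_3 k hk
  · rw [sqrt_4 k hk]; exact par_4 k hk
  · rw [sqrt_5 k hk]; exact par_5 k hk
  · rw [sqrt_6 k hk]; exact par_6 k hk
  · rw [sqrt_7 k hk]; exact par_7 k hk
  · rw [sqrt_8 k hk]; exact par_8 k hk
  · rw [sqrt_9 k hk]; exact par_9 k hk
  · rw [sqrt_10 k hk]; exact par_10 k hk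
  · rw [sqrt_11 k hk]; exact par_11 k hk

theorem hnil : ∀ k < 12, (frobStep ROWS)^[3] (2 ^ k) ≤ 1 := by decide +kernel

theorem sameBlock22 (M : Ideal Cfsg.AlgInt) (hM : Cfsg.IsPModular 2 M) (χ ψ : Cfsg.IrrCharacter ↥Cfsg.Spor.M22) :
    Cfsg.SameBlock M (χ : ↥Cfsg.Spor.M22 → ℂ) (ψ : ↥Cfsg.Spor.M22 → ℂ) :=
  sameBlock_of_cert hM 12 z z_zero hcomp hdisj ROWS rfl hrows 3 hnil χ ψ

end Cfsg.Agent.Lib.Helper4.Blk.M22
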