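import Mathlib
import Cfsg.Agent.Lib.Helper4.Blk.M22Enum

set_option autoImplicit false

/-! The tests counted over `M22`. -/

namespace Cfsg.Agent.Lib.Helper4.Blk.M22

open Cfsg.Agent.Lib.Helper3.Golay Cfsg.Agent.Lib.Helper4.Blk

/-- the levels of codes below the first -/
def CS4 : List (List ℕ) := [U3, U4, U5, U6]

/-- the tests: centralizing the representatives 1 to 11, conjugating 6 to 7 and 9 to 10, squaring to the identity and
to the representatives 1, 3, 5, 8 -/
def PS : List (ℕ → Bool) := [
  fun g => cjB g 983549987344740594813603985216310720 983549987344740594813603985216310720,
  fun g => cjB g 961409415667826064667231448532617248 961409415667826064667231448532617248,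
  fun g => cjB g 973970792660502034490951479562733600 973970792660502034490951479562733600,
  fun g => cjB g 967768981687868742388307053739378720 967768981687868742388307053739378720,
  fun g => cjB g 960096114190174093962263871970478112 960096114190174093962263871970478112,
  fun g => cjB g 965174050694431159680925848608017440 965174050694431159680925848608017440,
  fun g => cjB g 971293318299425534096312516345170976 971293318299425534096312516345170976,
  fun g => cjB g 962141165814749290801629538497707072 962141165814749290801629538497707072,
  fun g => cjB g 974389822388384561003210687310576704 974389822388384561003210687310576704,
  fun g => cjB g 957195937014898759761606554012728384 957195937014898759761606554012728384,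
  fun g => cjB g 983550147876907063786527030524623936 983550147876907063786527030524623936,
  fun g => cjB g 965174050694431159680925848608017440 971293318299425534096312516345170976,
  fun g => cjB g 974389822388384561003210687310576704 957195937014898759761606554012728384,
  fun g => sqB g idN,
  fun g => sqB g 983549987344740594813603985216310720,
  fun g => sqB g 973970792660502034490951479562733600,
  fun g => sqB g 960096114190174093962263871970478112,
  fun g => sqB g 962141165814749290801629538497707072]

end Cfsg.Agent.Lib.Helper4.Blk.M22
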