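import Mathlib
import Cfsg.Agent.Lib.Helper4.Blk.M22Sweep0

set_option autoImplicit false
set_option maxRecDepth 100000

/-! Sums of the flags of the tests over cosets in `M22`. -/

namespace Cfsg.Agent.Lib.Helper4.Blk.M22

open Cfsg.Agent.Lib.Helper4.Blk

theorem chunk_0 : sweepC CS4 (packP PS) 984818244535754528103549039458486304 = 585444803183870684063181839780682054750594999702598093235463156842509957914951704 := by
  decide +kernel

theorem chunk_1 : sweepC CS4 (packP PS) 984794101830338922210832940662111296 = 8148147790749835733643806957634018661226003113147977844938128819411607615914581323861196824 := by
  decide +kernel

theorem chunk_2 : sweepC CS4 (packP PS) 962686154196071668596046059922966624 = 3885411891388570024203996506015487632536115312856557393627212594534567417606231293976 := by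
  decide +kernel

theorem chunk_3 : sweepC CS4 (packP PS) 967878575157236953808364602240993408 = 5828080783614299095123458412840539034719389434563630170070121659439482482456208080920 := by
  decide +kernel

theorem chunk_4 : sweepC CS4 (packP PS) 983536165771102967655108634103394464 = 74106937111882365071085431938057263393618979447275191820394753666823181085704192 := by
  decide +kernel

theorem chunk_5 : sweepC CS4 (packP PS) 981670672876541837136744274121179328 = 74106937111882365071085431938057263395012776022183355766740736058863703679827968 := by
  decide +kernel

end Cfsg.Agent.Lib.Helper4.Blk.M22
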