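import Cfsg.Agent.Lib.Helper4.Blk.M22SweepA -- chain
import Mathlib
import Cfsg.Agent.Lib.Helper4.Blk.M22Sweep0

set_option autoImplicit false
set_option maxRecDepth 100000

/-! Sums of the flags of the tests over cosets in `M22`. -/

namespace Cfsg.Agent.Lib.Helper4.Blk.M22

open Cfsg.Agent.Lib.Helper4.Blk

theorem chunk_6 : sweepC CS4 (packP PS) 970312508488205970869827225688653024 = 74106937111882365071085430405560261026092790186009960985252853765064402969559040 := by
  decide +kernel

theorem chunk_7 : sweepC CS4 (packP PS) 983049592003528589772035713952747776 = 5828080783614299095123458412840539034719389434563630170070121659439482482456208080920 := by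
  decide +kernel

theorem chunk_8 : sweepC CS4 (packP PS) 979196195086784820467630328133650720 = 5828080783614299095123458412839006540640023789239599833082709836989754722467362897944 := by
  decide +kernel

theorem chunk_9 : sweepC CS4 (packP PS) 966256096991632118533086707764562240 = 5828080783614299095123458412840539034719388040767055261906175313457090441933613957144 := by
  decide +kernel

theorem chunk_10 : sweepC CS4 (packP PS) 965282445954460401518314624530003296 = 3885411891388570024203996506015487632536115312856557393627212594534567417606221856792 := by
  decide +kernel

theorem chunk_11 : sweepC CS4 (packP PS) 982927762661072102301484427445930368 = 3885411891388570024203994899077443373545839770894465052464610072331573634813386555416 := by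
  decide +kernel

end Cfsg.Agent.Lib.Helper4.Blk.M22
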