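import Cfsg.Agent.Lib.Helper4.Blk.M22SweepB -- chain
import Mathlib
import Cfsg.Agent.Lib.Helper4.Blk.M22Sweep0

set_option autoImplicit false
set_option maxRecDepth 100000

/-! Sums of the flags of the tests over cosets in `M22`. -/

namespace Cfsg.Agent.Lib.Helper4.Blk.M22

open Cfsg.Agent.Lib.Helper4.Blk

theorem chunk_12 : sweepC CS4 (packP PS) 979155095585254260440355752277031328 = 74106937111882365071085431938057263393618979447275191820394753666823181095141376 := by
  decide +kernel

theorem chunk_13 : sweepC CS4 (packP PS) 981508236892142589879350563200060864 = 74106937111882365072692368449819251301634752278351123587775056758847195804860440 := by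
  decide +kernel

theorem chunk_14 : sweepC CS4 (packP PS) 972746052719751772483686825663438304 = 3885411891388570024203996506017020129538484232842393567021994082416861216906932125720 := by
  decide +kernel

theorem chunk_15 : sweepC CS4 (packP PS) 980112048499195800600327754822849024 = 74106937111882365071085430405560261027486586760918124931598836157104925563682816 := by
  decide +kernel

theorem chunk_16 : sweepC CS4 (packP PS) 970336125140791779583487828937487904 = 74106937111882365071085430405560261026092790186009960985252853765064402969559040 := by
  decide +kernel

end Cfsg.Agent.Lib.Helper4.Blk.M22
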