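import Cfsg.Agent.Lib.Helper4.Blk.M22SweepC -- chain
import Mathlib
import Cfsg.Agent.Lib.Helper4.Blk.M22Sweep0

set_option autoImplicit false
set_option maxRecDepth 100000

/-! Sums of the flags of the tests over cosets in `M22`. -/

namespace Cfsg.Agent.Lib.Helper4.Blk.M22

open Cfsg.Agent.Lib.Helper4.Blk

theorem chunk_17 : sweepC CS4 (packP PS) 984225976557788616015613681174063680 = 5828080783614299095123458412839006540640023789239599833082709836989754722467362897944 := by
  decide +kernel

theorem chunk_18 : sweepC CS4 (packP PS) 975301430794278890042444390011845216 = 5828080783614299095123458412839006540640023789239599833082709836989754722467362897944 := by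
  decide +kernel

theorem chunk_19 : sweepC CS4 (packP PS) 976599673329250981440947940109916800 = 3885411891388570024203994899078975870548207297083726317695445214231475393591502700568 := by
  decide +kernel

theorem chunk_20 : sweepC CS4 (packP PS) 977898142071999649210332520653204128 = 5828080783614299095123456805900962281649749641074082400084053660769152980197121720344 := by
  decide +kernel

theorem chunk_21 : sweepC CS4 (packP PS) 978262620431553244065583891506176704 = 5828080783614299095123456805902494775729112498804962920743572791254096659140778655768 := by
  decide +kernel

end Cfsg.Agent.Lib.Helper4.Blk.M22
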