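import Mathlib
import Cfsg.Agent.Lib.Helper4.Blk.M22Enum
import Cfsg.Agent.Lib.Helper4.Blk.M24Data

set_option autoImplicit false

/-! The enumeration of `M24` by the transversal tables. -/

namespace Cfsg.Agent.Lib.Helper4.Blk.M24

open Cfsg Cfsg.Agent.Lib.Helper3.Golay Cfsg.Agent.Lib.Helper4.Blk

/-- the levels of tables -/
def LS : List (List (List ℕ)) := [U0T, U1T, M22.U2T, M22.U3T, M22.U4T, M22.U5T, M22.U6T]

/-- the levels of codes -/
def CS : List (List ℕ) := [U0, U1, M22.U2, M22.U3, M22.U4, M22.U5, M22.U6]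

theorem chain_LS : chainOK 0 LS = true := by decide +kernel

theorem codes_LS : codes LS = CS := by decide +kernel

theorem M24_eq : Cfsg.M24 = Cfsg.M24 ⊓ fixB 0 := by
  show Cfsg.M24 = Cfsg.M24 ⊓ ⊤
  rw [inf_top_eq]

theorem length_LS : (LS.map List.length).prod = 244823040 := by decide +kernel

theorem enum24 : Enum Cfsg.M24 (prodList LS) := by
  rw [M24_eq]
  refine enum_of_chain chain_LS (by norm_num) ?_
  rw [length_LS]
  decide

theorem eltW_mem24 (w : ℕ) : eltW LS w ∈ Cfsg.M24 := by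
  rw [M24_eq]; exact eltW_mem chain_LS w

end Cfsg.Agent.Lib.Helper4.Blk.M24
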