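import Mathlib
import Cfsg.Agent.Lib.Helper4.Blk.Count

set_option autoImplicit false

/-! Counting the `g` with `g * a = b * g` in a group of the stabilizer chain by a search that gives up a branch as soon
as the images of the base points fixed so far contradict the equation. -/

namespace Cfsg.Agent.Lib.Helper4.Blk

open Cfsg Cfsg.Agent.Lib.Helper3.Golay

/-- the tests `h q = b (h p)` for the pairs `(p, q)` -/
def tstB (b h : ℕ) (ps : List (ℕ × ℕ)) : Bool :=
  ps.all fun pq => Nat.beq (lk h pq.2) (lk b (lk h pq.1))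

/-- the search: `cs` lists for each level the pairs `(p, q)` of points fixed below this level with `a p = q` -/
def sweepT (a b : ℕ) : List (List ℕ) → List (List (ℕ × ℕ)) → ℕ → ℕ
  | [], _, h => cond (cjB h a b) 1 0
  | U :: Us, cs, h =>
    (U.map fun c => cond (tstB b (cmp h c) (cs.headD [])) (sweepT a b Us cs.tail (cmp h c)) 0).sum

/-- the points `p` and `q` are among the first `k` base points, and `a p = q` -/
def pairOK (a k : ℕ) (pq : ℕ × ℕ) : Bool :=
  (List.range k).any (fun j => Nat.beq (base j) pq.1) && (List.range k).any (fun j => Nat.beq (base j) pq.2) &&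
    Nat.beq (lk a pq.1) pq.2

/-- the lists of pairs are as `sweepT` wants them, for the levels from `k` on -/
def consOK (a : ℕ) : ℕ → List (List (ℕ × ℕ)) → Bool
  | _, [] => true
  | k, ps :: cs => ps.all (pairOK a (k + 1)) && consOK a (k + 1) cs

theorem pairOK_spec {a' : Equiv.Perm GolayPt} {k : ℕ} {pq : ℕ × ℕ} (h : pairOK (codeOf a') k pq = true)
    {g : Equiv.Perm GolayPt} (hg : g ∈ fixB k) :
    pq.1 < 24 ∧ pq.2 < 24 ∧ g (pt pq.1) = pt pq.1 ∧ g (pt pq.2) = pt pq.2 ∧ a' (pt pq.1) = pt pq.2 := by
  unfold pairOK at h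
  rw [Bool.and_eq_true, Bool.and_eq_true, List.any_eq_true, List.any_eq_true] at h
  obtain ⟨⟨⟨j, hj, hj'⟩, ⟨i, hi, hi'⟩⟩, h3⟩ := h
  rw [List.mem_range] at hj hi
  have e1 := Nat.eq_of_beq_eq_true hj'
  have e2 := Nat.eq_of_beq_eq_true hi'
  have e3 := Nat.eq_of_beq_eq_true h3
  have l1 : pq.1 < 24 := by rw [← e1]; exact base_lt j
  have l2 : pq.2 < 24 := by rw [← e2]; exact base_lt i
  refine ⟨l1, l2, ?_, ?_, ?_⟩
  · have := mem_fixB.mp hg j hj
    unfold β at this
    rwa [e1] at this
  · have := mem_fixB.mp hg i hi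
    unfold β at this
    rwa [e2] at this
  · rw [lk_codeOf a' l1] at e3
    rw [← e3, pt_idx]

theorem tstB_of_conj {a' b' ρ g : Equiv.Perm GolayPt} {k : ℕ} {ps : List (ℕ × ℕ)}
    (hps : ps.all (pairOK (codeOf a') k) = true) (hg : g ∈ fixB k) (h : (ρ * g) * a' = b' * (ρ * g)) :
    tstB (codeOf b') (codeOf ρ) ps = true := by
  unfold tstB
  rw [List.all_eq_true] at hps ⊢
  intro pq hpq
  obtain ⟨l1, l2, f1, f2, e⟩ := pairOK_spec (hps pq hpq) hg
  have h1 := congrArg (fun f : Equiv.Perm GolayPt => f (pt pq.1)) h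
  simp only [Equiv.Perm.mul_apply] at h1
  rw [e, f1, f2] at h1
  rw [lk_codeOf ρ l2, lk_codeOf ρ l1, lk_codeOf b' (idx_lt _), pt_idx, h1]
  exact Nat.beq_refl _

theorem countP_eq_sweepT {k : ℕ} {Ls : List (List (List ℕ))} (h : chainOK k Ls = true)
    (a' b' : Equiv.Perm GolayPt) (cs : List (List (ℕ × ℕ))) (hcs : consOK (codeOf a') k cs = true)
    (ρ : Equiv.Perm GolayPt) :
    ((prodList Ls).countP fun g => cjB (codeOf (ρ * g)) (codeOf a') (codeOf b')) =
      sweepT (codeOf a') (codeOf b') (codes Ls) cs (codeOf ρ) := by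
  induction Ls generalizing k ρ cs with
  | nil =>
    simp only [prodList, codes, List.map_nil, sweepT, List.countP_cons, List.countP_nil, mul_one]
    cases cjB (codeOf ρ) (codeOf a') (codeOf b') <;> rfl
  | cons L Ls ih =>
    rw [chainOK, Bool.and_eq_true] at h
    obtain ⟨hL, -⟩ := lvlOK_spec h.1
    -- the constraints of this level and of the deeper ones
    have hcs1 : (cs.headD []).all (pairOK (codeOf a') (k + 1)) = true := by
      cases cs with
      | nil => rfl
      | cons ps cs' =>
        rw [consOK, Bool.and_eq_true] at hcs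
        exact hcs.1
    have hcs2 : consOK (codeOf a') (k + 1) cs.tail = true := by
      cases cs with
      | nil => rfl
      | cons ps cs' =>
        rw [consOK, Bool.and_eq_true] at hcs
        exact hcs.2
    have key : ∀ (L' : List (List ℕ)), (∀ T ∈ L', tblOK 0 T = true) →
        ((L'.flatMap fun T => (prodList Ls).map fun x => pOf T * x).countP
          fun g => cjB (codeOf (ρ * g)) (codeOf a') (codeOf b')) =
        ((L'.map encL).map fun c => cond (tstB (codeOf b') (cmp (codeOf ρ) c) (cs.headD []))
          (sweepT (codeOf a') (codeOf b') (codes Ls) cs.tail (cmp (codeOf ρ) c)) 0).sum := by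
      intro L' hL'
      induction L' with
      | nil => rfl
      | cons T L' ih' =>
        rw [List.flatMap_cons, List.countP_append, List.map_cons, List.map_cons,
          List.sum_cons, ih' (fun T' hT' => hL' T' (List.mem_cons_of_mem _ hT'))]
        congr 1
        rw [List.countP_map]
        have hT := codeOf_eq_encL (pOf_spec (hL' T List.mem_cons_self)).2
        have hih := ih h.2 cs.tail hcs2 (ρ * pOf T)
        rw [codeOf_mul, hT] at hih
        rw [← hih]
        by_cases ht : tstB (codeOf b') (cmp (codeOf ρ) (encL T)) (cs.headD []) = true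
        · rw [ht, cond_true]
          rfl
        · rw [Bool.not_eq_true] at ht
          rw [ht, cond_false, List.countP_eq_zero]
          intro x hx hcj
          rw [Function.comp_apply, cjB_iff] at hcj
          have hx' : x ∈ fixB (k + 1) := (Subgroup.mem_inf.mp (chain_mem h.2 x hx)).2
          have := tstB_of_conj (ρ := ρ * pOf T) hcs1 hx' (by rw [mul_assoc]; exact hcj)
          rw [codeOf_mul, hT, ht] at this
          exact Bool.false_ne_true this
    exact key L (fun T hT => (hL T hT).1)

/-- the count over the whole group of the chain -/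
theorem cent_of_sweep {k : ℕ} {Ls : List (List (List ℕ))} (hch : chainOK k Ls = true)
    (a b : Equiv.Perm GolayPt) (ac bc : ℕ) (ha : codeOf a = ac) (hb : codeOf b = bc)
    (cs : List (List (ℕ × ℕ))) (hcs : consOK ac k cs = true) (n : ℕ)
    (hs : sweepT ac bc (codes Ls) cs idN = n) :
    ((prodList Ls).countP fun g => cjB (codeOf g) ac bc) = n := by
  subst ha hb
  have := countP_eq_sweepT hch a b cs hcs 1
  simp only [one_mul, codeOf_one] at this
  rw [this, hs]

theorem map_eq_of_getD {f : ℕ → ℕ} {l vals : List ℕ} (hlen : l.length = vals.length)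
    (h : ∀ i < l.length, f (l.getD i 0) = vals.getD i 0) : l.map f = vals := by
  apply List.ext_getElem
  · rw [List.length_map, hlen]
  · intro i h1 h2
    rw [List.getElem_map]
    have h3 : i < l.length := by simpa using h1
    have := h i h3
    rw [List.getD_eq_getElem _ _ h3, List.getD_eq_getElem _ _ h2] at this
    exact this

/-- the search, split at the first level -/
theorem sweepT_cons (a b : ℕ) (U : List ℕ) (Us : List (List ℕ)) (cs : List (List (ℕ × ℕ))) (h : ℕ) :
    sweepT a b (U :: Us) cs h =
      (U.map fun c => cond (tstB b (cmp h c) (cs.headD [])) (sweepT a b Us cs.tail (cmp h c)) 0).sum := rfl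

theorem isConj_of_code {H : Subgroup (Equiv.Perm GolayPt)} (a b g : ↥H)
    (h : cmp (codeOf g.1) (codeOf a.1) = cmp (codeOf b.1) (codeOf g.1)) : IsConj a b := by
  rw [← codeOf_mul, ← codeOf_mul] at h
  have h1 : g * a = b * g := Subtype.ext (codeOf_injective h)
  rw [isConj_iff]
  exact ⟨g, by rw [h1]; group⟩

theorem commute_of_code {H : Subgroup (Equiv.Perm GolayPt)} (a b : ↥H)
    (h : cmp (codeOf a.1) (codeOf b.1) = cmp (codeOf b.1) (codeOf a.1)) : a * b = b * a := by
  rw [← codeOf_mul, ← codeOf_mul] at h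
  exact Subtype.ext (codeOf_injective h)

theorem inv_of_code {H : Subgroup (Equiv.Perm GolayPt)} (a b : ↥H)
    (h : cmp (codeOf a.1) (codeOf b.1) = idN) : a⁻¹ = b := by
  rw [← codeOf_mul, ← codeOf_one] at h
  have h1 : a * b = 1 := Subtype.ext (codeOf_injective h)
  exact inv_eq_of_mul_eq_one_right h1

theorem sq_eq_one_iff_code {H : Subgroup (Equiv.Perm GolayPt)} (a : ↥H) :
    a * a = 1 ↔ cmp (codeOf a.1) (codeOf a.1) = idN := by
  rw [← codeOf_mul, ← codeOf_one]
  constructor
  · intro h
    have := congrArg Subtype.val h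
    rw [Subgroup.coe_mul, Subgroup.coe_one] at this
    rw [this]
  · intro h
    exact Subtype.ext (codeOf_injective h)

end Cfsg.Agent.Lib.Helper4.Blk
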