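import Mathlib
import Cfsg.Agent.Lib.Helper4.Blk.M24Enum
import Cfsg.Agent.Lib.Helper4.Blk.Prune

set_option autoImplicit false
set_option maxRecDepth 100000

/-! Centralizer orders of class representatives of `M24` by pruned searches. -/

namespace Cfsg.Agent.Lib.Helper4.Blk.M24

open Cfsg.Agent.Lib.Helper3.Golay Cfsg.Agent.Lib.Helper4.Blk

/-- the pairs of base points for the search of the centralizer of the representative 3 -/
def cs3 : List (List (ℕ × ℕ)) :=
  [[], [(23, 0)], [(0, 1), (1, 23)], [], [(2, 3)], [(3, 5), (5, 2)], []]

theorem consOK3 : consOK 9438197900198597395393065446969057 0 cs3 = true := by decide +kernel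

theorem cent3 : sweepT 9438197900198597395393065446969057 9438197900198597395393065446969057 CS cs3 idN = 1080 := by
  decide +kernel

/-- the pairs of base points for the search of the centralizer of the representative 4 -/
def cs4 : List (List (ℕ × ℕ)) :=
  [[], [(23, 0)], [(0, 1), (1, 23)], [], [(2, 3)], [], []]

theorem consOK4 : consOK 27430218808318643410976476762803937 0 cs4 = true := by decide +kernel

theorem cent4 : sweepT 27430218808318643410976476762803937 27430218808318643410976476762803937 CS cs4 idN = 504 := by
  decide +kernel

/-- the pairs of base points for the search of the centralizer of the representative 5 -/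
def cs5 : List (List (ℕ × ℕ)) :=
  [[], [(23, 0)], [(0, 1)], [(1, 2), (2, 23)], [], [(3, 5)], []]

theorem consOK5 : consOK 17129338494342556402982452004576321 0 cs5 = true := by decide +kernel

theorem cent5 : sweepT 17129338494342556402982452004576321 17129338494342556402982452004576321 CS cs5 idN = 384 := by
  decide +kernel

/-- the pairs of base points for the search of the centralizer of the representative 6 -/
def cs6 : List (List (ℕ × ℕ)) :=
  [[], [(23, 0)], [(0, 1)], [(1, 2), (2, 23)], [(3, 3)], [(5, 5)], []]

theorem consOK6 : consOK 26834394743506163337918545021492289 0 cs6 = true := by decide +kernel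

theorem cent6 : sweepT 26834394743506163337918545021492289 26834394743506163337918545021492289 CS cs6 idN = 128 := by
  decide +kernel

/-- the pairs of base points for the search of the centralizer of the representative 7 -/
def cs7 : List (List (ℕ × ℕ)) :=
  [[], [(23, 0)], [(0, 1)], [(1, 2), (2, 23)], [], [(3, 5)], []]

theorem consOK7 : consOK 15095566422868524816741213061438529 0 cs7 = true := by decide +kernel

theorem cent7 : sweepT 15095566422868524816741213061438529 15095566422868524816741213061438529 CS cs7 idN = 96 := by
  decide +kernel

/-- the pairs of base points for the search of the centralizer of the representative 8 -/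
def cs8 : List (List (ℕ × ℕ)) :=
  [[], [(23, 0)], [(0, 1)], [(1, 2)], [(2, 3), (3, 23)], [(5, 5)], []]

theorem consOK8 : consOK 9953058385630028138502485841775681 0 cs8 = true := by decide +kernel

theorem cent8 : sweepT 9953058385630028138502485841775681 9953058385630028138502485841775681 CS cs8 idN = 60 := by
  decide +kernel

end Cfsg.Agent.Lib.Helper4.Blk.M24
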