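import Mathlib
import Cfsg.Agent.Lib.Helper4.Blk.M24Enum
import Cfsg.Agent.Lib.Helper4.Blk.Prune

set_option autoImplicit false
set_option maxRecDepth 100000

/-! Centralizer orders of class representatives of `M24` by pruned searches. -/

namespace Cfsg.Agent.Lib.Helper4.Blk.M24

open Cfsg.Agent.Lib.Helper3.Golay Cfsg.Agent.Lib.Helper4.Blk

/-- the pairs of base points for the search of the centralizer of the representative 9 -/
def cs9 : List (List (ℕ × ℕ)) :=
  [[], [(23, 0)], [(0, 1)], [(1, 2)], [(2, 3)], [(3, 5), (5, 23)], []]

theorem consOK9 : consOK 28887991188015900000246598024203329 0 cs9 = true := by decide +kernel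

theorem cent9 : sweepT 28887991188015900000246598024203329 28887991188015900000246598024203329 CS cs9 idN = 24 := by
  decide +kernel

/-- the pairs of base points for the search of the centralizer of the representative 10 -/
def cs10 : List (List (ℕ × ℕ)) :=
  [[], [(23, 0)], [(0, 1)], [(1, 2)], [(2, 3)], [], []]

theorem consOK10 : consOK 16498839500638193343388019384257601 0 cs10 = true := by decide +kernel

theorem cent10 : sweepT 16498839500638193343388019384257601 16498839500638193343388019384257601 CS cs10 idN = 24 := by
  decide +kernel

/-- the pairs of base points for the search of the centralizer of the representative 11 -/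
def cs11 : List (List (ℕ × ℕ)) :=
  [[], [(23, 0)], [(0, 1)], [(1, 2)], [(2, 3)], [(3, 5)], []]

theorem consOK11 : consOK 5989023361288815337814165657128001 0 cs11 = true := by decide +kernel

theorem cent11 : sweepT 5989023361288815337814165657128001 5989023361288815337814165657128001 CS cs11 idN = 42 := by
  decide +kernel

/-- the pairs of base points for the search of the centralizer of the representative 12 -/
def cs12 : List (List (ℕ × ℕ)) :=
  [[], [(0, 23)], [(1, 0)], [(2, 1)], [(3, 2)], [(5, 3)], []]

theorem consOK12 : consOK 592353694222750879528934661771297815 0 cs12 = true := by decide +kernel

theorem cent12 : sweepT 592353694222750879528934661771297815 592353694222750879528934661771297815 CS cs12 idN = 42 := by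
  decide +kernel

/-- the pairs of base points for the search of the centralizer of the representative 13 -/
def cs13 : List (List (ℕ × ℕ)) :=
  [[(23, 23)], [(0, 0)], [], [(1, 2), (2, 1)], [], [(3, 5)], []]

theorem consOK13 : consOK 970095357498118284819815619306357824 0 cs13 = true := by decide +kernel

theorem cent13 : sweepT 970095357498118284819815619306357824 970095357498118284819815619306357824 CS cs13 idN = 16 := by
  decide +kernel

/-- the pairs of base points for the search of the centralizer of the representative 14 -/
def cs14 : List (List (ℕ × ℕ)) :=
  [[], [(23, 0)], [(0, 1)], [(1, 2)], [(2, 3)], [], []]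

theorem consOK14 : consOK 18997748845496833536398288558951489 0 cs14 = true := by decide +kernel

theorem cent14 : sweepT 18997748845496833536398288558951489 18997748845496833536398288558951489 CS cs14 idN = 20 := by
  decide +kernel

/-- the pairs of base points for the search of the centralizer of the representative 15 -/
def cs15 : List (List (ℕ × ℕ)) :=
  [[], [(23, 0)], [(0, 1)], [(1, 2)], [(2, 3)], [], []]

theorem consOK15 : consOK 25489381294390816362963744210684993 0 cs15 = true := by decide +kernel

theorem cent15 : sweepT 25489381294390816362963744210684993 25489381294390816362963744210684993 CS cs15 idN = 11 := by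
  decide +kernel

/-- the pairs of base points for the search of the centralizer of the representative 16 -/
def cs16 : List (List (ℕ × ℕ)) :=
  [[], [(23, 0)], [(0, 1)], [(1, 2)], [(2, 3)], [(3, 5), (5, 23)], []]

theorem consOK16 : consOK 21232123104814624310035147362831425 0 cs16 = true := by decide +kernel

theorem cent16 : sweepT 21232123104814624310035147362831425 21232123104814624310035147362831425 CS cs16 idN = 12 := by
  decide +kernel

/-- the pairs of base points for the search of the centralizer of the representative 17 -/
def cs17 : List (List (ℕ × ℕ)) :=
  [[], [(23, 0)], [(0, 1)], [(1, 2)], [(2, 3)], [], [(3, 4)]]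

theorem consOK17 : consOK 24883638856139254382255750114315329 0 cs17 = true := by decide +kernel

theorem cent17 : sweepT 24883638856139254382255750114315329 24883638856139254382255750114315329 CS cs17 idN = 12 := by
  decide +kernel

/-- the pairs of base points for the search of the centralizer of the representative 18 -/
def cs18 : List (List (ℕ × ℕ)) :=
  [[(23, 23)], [], [(0, 1)], [(1, 2)], [(2, 3)], [(3, 5)], []]

theorem consOK18 : consOK 963848443294065379414368093432089665 0 cs18 = true := by decide +kernel

theorem cent18 : sweepT 963848443294065379414368093432089665 963848443294065379414368093432089665 CS cs18 idN = 14 := by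
  decide +kernel

/-- the pairs of base points for the search of the centralizer of the representative 19 -/
def cs19 : List (List (ℕ × ℕ)) :=
  [[(23, 23)], [], [(1, 0)], [(2, 1)], [(3, 2)], [(5, 3)], []]

theorem consOK19 : consOK 981639921268193483083663252444480529 0 cs19 = true := by decide +kernel

theorem cent19 : sweepT 981639921268193483083663252444480529 981639921268193483083663252444480529 CS cs19 idN = 14 := by
  decide +kernel

/-- the pairs of base points for the search of the centralizer of the representative 20 -/
def cs20 : List (List (ℕ × ℕ)) :=
  [[], [(23, 0)], [(0, 1)], [(1, 2)], [(2, 3), (3, 23)], [], []]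

theorem consOK20 : consOK 8098158286131391920234805050707009 0 cs20 = true := by decide +kernel

theorem cent20 : sweepT 8098158286131391920234805050707009 8098158286131391920234805050707009 CS cs20 idN = 15 := by
  decide +kernel

/-- the pairs of base points for the search of the centralizer of the representative 21 -/
def cs21 : List (List (ℕ × ℕ)) :=
  [[], [(0, 23)], [(1, 0)], [(2, 1)], [(23, 3), (3, 2)], [], []]

theorem consOK21 : consOK 142124401757315629288865562854753303 0 cs21 = true := by decide +kernel

theorem cent21 : sweepT 142124401757315629288865562854753303 142124401757315629288865562854753303 CS cs21 idN = 15 := by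
  decide +kernel

/-- the pairs of base points for the search of the centralizer of the representative 22 -/
def cs22 : List (List (ℕ × ℕ)) :=
  [[], [(23, 0)], [(0, 1)], [(1, 2)], [(2, 3)], [], [(4, 23)]]

theorem consOK22 : consOK 7113129364864693444522906723159105 0 cs22 = true := by decide +kernel

theorem cent22 : sweepT 7113129364864693444522906723159105 7113129364864693444522906723159105 CS cs22 idN = 21 := by
  decide +kernel

/-- the pairs of base points for the search of the centralizer of the representative 23 -/
def cs23 : List (List (ℕ × ℕ)) :=
  [[], [(0, 23)], [(1, 0)], [(2, 1)], [(3, 2)], [], [(23, 4)]]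

theorem consOK23 : consOK 178183795212222339935447281516479511 0 cs23 = true := by decide +kernel

theorem cent23 : sweepT 178183795212222339935447281516479511 178183795212222339935447281516479511 CS cs23 idN = 21 := by
  decide +kernel

/-- the pairs of base points for the search of the centralizer of the representative 24 -/
def cs24 : List (List (ℕ × ℕ)) :=
  [[(23, 23)], [], [(0, 1)], [(1, 2)], [(2, 3)], [], []]

theorem consOK24 : consOK 963183957482548948582293150762241089 0 cs24 = true := by decide +kernel

theorem cent24 : sweepT 963183957482548948582293150762241089 963183957482548948582293150762241089 CS cs24 idN = 23 := by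
  decide +kernel

/-- the pairs of base points for the search of the centralizer of the representative 25 -/
def cs25 : List (List (ℕ × ℕ)) :=
  [[(23, 23)], [], [(1, 0)], [(2, 1)], [(3, 2)], [], []]

theorem consOK25 : consOK 962503495994917180319164852455146517 0 cs25 = true := by decide +kernel

theorem cent25 : sweepT 962503495994917180319164852455146517 962503495994917180319164852455146517 CS cs25 idN = 23 := by
  decide +kernel

theorem pair9_10 : sweepT 28887991188015900000246598024203329 16498839500638193343388019384257601 CS cs9 idN = 0 := by
  decide +kernel

theorem pair11_12 : sweepT 5989023361288815337814165657128001 592353694222750879528934661771297815 CS cs11 idN = 0 := by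
  decide +kernel

theorem pair16_17 : sweepT 21232123104814624310035147362831425 24883638856139254382255750114315329 CS cs16 idN = 0 := by
  decide +kernel

theorem pair18_19 : sweepT 963848443294065379414368093432089665 981639921268193483083663252444480529 CS cs18 idN = 0 := by
  decide +kernel

theorem pair20_21 : sweepT 8098158286131391920234805050707009 142124401757315629288865562854753303 CS cs20 idN = 0 := by
  decide +kernel

theorem pair22_23 : sweepT 7113129364864693444522906723159105 178183795212222339935447281516479511 CS cs22 idN = 0 := by
  decide +kernel

theorem pair24_25 : sweepT 963183957482548948582293150762241089 962503495994917180319164852455146517 CS cs24 idN = 0 := by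
  decide +kernel

end Cfsg.Agent.Lib.Helper4.Blk.M24
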