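import Mathlib

set_option autoImplicit false

/-! Counting in a finite set permuted by `f` from a list of cycle representatives: each representative `y` comes with a
length `t` such that `f ^ t` fixes `y` and the keys of `f ^ i y`, `0 < i < t`, exceed the key of `y`; if the lengths add
up to the size of the set, then an `f`-invariant subset has as many elements as the sum of the lengths of the
representatives in it. -/

namespace Cfsg.Agent.Lib.Helper4.Blk

variable {α : Type*}

theorem pow_mul_add_apply (f : Equiv.Perm α) (y : α) (t : ℕ) (ht : (f ^ t) y = y) (q a : ℕ) :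
    (f ^ (t * q + a)) y = (f ^ a) y := by
  induction q with
  | zero => simp
  | succ q ih =>
    rw [show t * (q + 1) + a = (t * q + a) + t by ring, pow_add, Equiv.Perm.mul_apply, ht, ih]

/-- the cycle of `y` of length `t` as a list -/
def cycList (f : Equiv.Perm α) (y : α) (t : ℕ) : List α := (List.range t).map fun i => (f ^ i) y

theorem mem_cycList {f : Equiv.Perm α} {y x : α} {t : ℕ} : x ∈ cycList f y t ↔ ∃ i < t, (f ^ i) y = x := by
  unfold cycList
  rw [List.mem_map]
  constructor
  · rintro ⟨i, hi, rfl⟩; exact ⟨i, List.mem_range.mp hi, rfl⟩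
  · rintro ⟨i, hi, rfl⟩; exact ⟨i, List.mem_range.mpr hi, rfl⟩

/-- the condition on a representative -/
def IsCycRep (f : Equiv.Perm α) (key : α → ℕ) (y : α) (t : ℕ) : Prop :=
  0 < t ∧ (f ^ t) y = y ∧ ∀ i, 0 < i → i < t → key y < key ((f ^ i) y)

theorem IsCycRep.nodup {f : Equiv.Perm α} {key : α → ℕ} {y : α} {t : ℕ} (h : IsCycRep f key y t) :
    (cycList f y t).Nodup := by
  unfold cycList
  refine List.Nodup.map_on ?_ List.nodup_range
  intro i hi j hj hij
  rw [List.mem_range] at hi hj
  by_contra hne
  -- wlog i < j
  have key1 : ∀ i j : ℕ, i < j → j < t → (f ^ i) y = (f ^ j) y → False := by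
    intro i j hlt hj hij
    have h1 : (f ^ (j - i)) y = y := by
      have : (f ^ j) y = (f ^ i) ((f ^ (j - i)) y) := by
        rw [← Equiv.Perm.mul_apply, ← pow_add, Nat.add_sub_cancel' hlt.le]
      rw [this] at hij
      exact ((f ^ i).injective hij).symm
    have := h.2.2 (j - i) (by omega) (by omega)
    rw [h1] at this
    exact lt_irrefl _ this
  rcases Nat.lt_or_gt_of_ne hne with h1 | h1
  · exact key1 i j h1 hj hij
  · exact key1 j i h1 hi hij.symm

theorem IsCycRep.key_le {f : Equiv.Perm α} {key : α → ℕ} {y : α} {t : ℕ} (h : IsCycRep f key y t) (a : ℕ) :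
    key y ≤ key ((f ^ a) y) ∧ (key y = key ((f ^ a) y) → (f ^ a) y = y) := by
  have h1 : (f ^ a) y = (f ^ (a % t)) y := by
    conv_lhs => rw [← Nat.div_add_mod a t]
    exact pow_mul_add_apply f y t h.2.1 _ _
  rw [h1]
  by_cases h0 : a % t = 0
  · rw [h0, pow_zero, Equiv.Perm.one_apply]
    exact ⟨le_refl _, fun _ => rfl⟩
  · have := h.2.2 (a % t) (Nat.pos_of_ne_zero h0) (Nat.mod_lt _ h.1)
    exact ⟨this.le, fun h' => absurd h' this.ne⟩

theorem cycList_disjoint {f : Equiv.Perm α} {key : α → ℕ} (hkey : Function.Injective key) {y y' : α} {t t' : ℕ}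
    (h : IsCycRep f key y t) (h' : IsCycRep f key y' t') (hne : y ≠ y') :
    List.Disjoint (cycList f y t) (cycList f y' t') := by
  intro x hx hx'
  rw [mem_cycList] at hx hx'
  obtain ⟨i, hi, rfl⟩ := hx
  obtain ⟨j, hj, hij⟩ := hx'
  -- `y' = f ^ (i + t' - j) y` and `y = f ^ (j + t - i) y'`
  have e1 : (f ^ (i + (t' - j))) y = y' := by
    rw [add_comm, pow_add, Equiv.Perm.mul_apply, ← hij, ← Equiv.Perm.mul_apply, ← pow_add,
      Nat.sub_add_cancel hj.le]
    exact h'.2.1
  have e2 : (f ^ (j + (t - i))) y' = y := by
    rw [add_comm, pow_add, Equiv.Perm.mul_apply, hij, ← Equiv.Perm.mul_apply, ← pow_add,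
      Nat.sub_add_cancel hi.le]
    exact h.2.1
  have k1 := h.key_le (i + (t' - j))
  have k2 := h'.key_le (j + (t - i))
  rw [e1] at k1
  rw [e2] at k2
  exact hne (hkey (le_antisymm k1.1 k2.1))

variable [Fintype α] [DecidableEq α]

/-- counting from cycle representatives -/
theorem card_filter_of_cycReps (S : Finset α) (f : Equiv.Perm α) (hf : ∀ x ∈ S, f x ∈ S)
    (key : α → ℕ) (hkey : Function.Injective key) (R : List (α × ℕ)) (hR : (R.map Prod.fst).Nodup)
    (hRS : ∀ p ∈ R, p.1 ∈ S ∧ IsCycRep f key p.1 p.2) (hsum : S.card ≤ (R.map Prod.snd).sum)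
    (P : α → Prop) [DecidablePred P] (hP : ∀ x, P (f x) ↔ P x) :
    (S.filter P).card = ((R.filter fun p => decide (P p.1)).map Prod.snd).sum := by
  classical
  let L : List α := R.flatMap fun p => cycList f p.1 p.2
  have hfS : ∀ (i : ℕ) (x : α), x ∈ S → (f ^ i) x ∈ S := by
    intro i
    induction i with
    | zero => intro x hx; simpa using hx
    | succ i ih =>
      intro x hx
      rw [pow_succ', Equiv.Perm.mul_apply]
      exact hf _ (ih x hx)
  have hPi : ∀ (i : ℕ) (x : α), P ((f ^ i) x) ↔ P x := by
    intro i
    induction i with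
    | zero => intro x; simp
    | succ i ih =>
      intro x
      rw [pow_succ', Equiv.Perm.mul_apply, hP, ih]
  have hLnd : L.Nodup := by
    rw [List.nodup_flatMap]
    refine ⟨fun p hp => (hRS p hp).2.nodup, ?_⟩
    rw [List.nodup_iff_pairwise_ne, List.pairwise_map] at hR
    refine hR.imp_of_mem ?_
    intro p p' hp hp' hne
    exact cycList_disjoint hkey (hRS p hp).2 (hRS p' hp').2 hne
  have hLS : L.toFinset ⊆ S := by
    intro x hx
    rw [List.mem_toFinset, List.mem_flatMap] at hx
    obtain ⟨p, hp, hx⟩ := hx
    rw [mem_cycList] at hx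
    obtain ⟨i, -, rfl⟩ := hx
    exact hfS i _ (hRS p hp).1
  have hLlen : L.length = (R.map Prod.snd).sum := by
    rw [List.length_flatMap]
    congr 1
    apply List.map_congr_left
    intro p _
    simp [cycList]
  have hLeq : L.toFinset = S := by
    apply Finset.eq_of_subset_of_card_le hLS
    rw [List.toFinset_card_of_nodup hLnd, hLlen]
    exact hsum
  have hfl : Finset.filter P L.toFinset = (L.filter fun x => decide (P x)).toFinset := by
    ext x; simp
  rw [← hLeq, hfl, List.toFinset_card_of_nodup (hLnd.filter _), ← List.countP_eq_length_filter]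
  -- count over the cycles
  have : ∀ R' : List (α × ℕ), (∀ p ∈ R', p ∈ R) →
      (R'.flatMap fun p => cycList f p.1 p.2).countP (fun x => decide (P x)) =
        ((R'.filter fun p => decide (P p.1)).map Prod.snd).sum := by
    intro R'
    induction R' with
    | nil => intro _; rfl
    | cons p R' ih =>
      intro hsub
      rw [List.flatMap_cons, List.countP_append, ih (fun q hq => hsub q (List.mem_cons_of_mem _ hq)),
        List.filter_cons]
      have hc : (cycList f p.1 p.2).countP (fun x => decide (P x)) = if P p.1 then p.2 else 0 := by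
        unfold cycList
        rw [List.countP_map]
        by_cases hp : P p.1
        · rw [if_pos hp]
          have : ∀ i ∈ List.range p.2, ((fun x => decide (P x)) ∘ fun i => (f ^ i) p.1) i = true := by
            intro i _
            simp only [Function.comp_apply, decide_eq_true_eq]
            exact (hPi i p.1).mpr hp
          rw [List.countP_eq_length.mpr this, List.length_range]
        · rw [if_neg hp, List.countP_eq_zero]
          intro i _
          simp only [Function.comp_apply, decide_eq_true_eq]
          exact fun h => hp ((hPi i p.1).mp h)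
      rw [hc]
      by_cases hp : P p.1
      · simp [hp]
      · simp [hp]
  exact this R (fun p hp => hp)

end Cfsg.Agent.Lib.Helper4.Blk
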