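import Mathlib
import Cfsg.Agent.Lib.Helper4.Blk.Cert
import Cfsg.Agent.Lib.Helper4.Blk.Orbit

set_option autoImplicit false

/-! Lists of representatives of the square roots of `r` under conjugation by `v`, with the lengths of their cycles
and conjugators to the class representatives, checked on codes. -/

namespace Cfsg.Agent.Lib.Helper4.Blk

open Cfsg Cfsg.Agent.Lib.Helper3.Golay

/-- conjugation by `v` on codes -/
def cjC (vc vic y : ℕ) : ℕ := cmp (cmp vc y) vic

/-- the iterates `1, …, t - 1` of `y` have codes above `y0`, and the iterate `t` is `y0` -/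
def cycB (vc vic y0 : ℕ) : ℕ → ℕ → Bool
  | 0, _ => false
  | 1, y => Nat.beq (cjC vc vic y) y0
  | n + 2, y => Nat.blt y0 (cjC vc vic y) && cycB vc vic y0 (n + 1) (cjC vc vic y)

theorem cycB_zero (vc vic y0 y : ℕ) : cycB vc vic y0 0 y = false := rfl

theorem cycB_one (vc vic y0 y : ℕ) : cycB vc vic y0 1 y = Nat.beq (cjC vc vic y) y0 := rfl

theorem cycB_succ_succ (vc vic y0 n y : ℕ) :
    cycB vc vic y0 (n + 2) y = (Nat.blt y0 (cjC vc vic y) && cycB vc vic y0 (n + 1) (cjC vc vic y)) := rfl

theorem cycB_spec (vc vic y0 : ℕ) (t : ℕ) : ∀ y : ℕ, cycB vc vic y0 t y = true →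
    0 < t ∧ (cjC vc vic)^[t] y = y0 ∧ ∀ i, 0 < i → i < t → y0 < (cjC vc vic)^[i] y := by
  induction t with
  | zero =>
    intro y h
    rw [cycB_zero] at h
    exact absurd h Bool.false_ne_true
  | succ n ih =>
    intro y h
    cases n with
    | zero =>
      rw [cycB_one] at h
      exact ⟨Nat.one_pos, Nat.eq_of_beq_eq_true h, fun i h1 h2 => by omega⟩
    | succ n =>
      rw [cycB_succ_succ, Bool.and_eq_true] at h
      obtain ⟨h1, h2, h3⟩ := ih _ h.2
      refine ⟨Nat.succ_pos _, ?_, ?_⟩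
      · rw [Function.iterate_succ_apply]; exact h2
      · intro i hi hi'
        have hlt : y0 < cjC vc vic y := by
          have := h.1
          simpa [Nat.blt] using this
        rcases Nat.lt_or_ge 1 i with h4 | h4
        · obtain ⟨j, rfl⟩ : ∃ j, i = j + 1 := ⟨i - 1, by omega⟩
          rw [Function.iterate_succ_apply]
          exact h3 j (by omega) (by omega)
        · have : i = 1 := by omega
          rw [this, Function.iterate_one]
          exact hlt

/-- the entries `(y, k, g, t)`: words of a square root `y` of `r` and of `g` with `g * (y * w) = z k * g`, and the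
length `t` of the cycle of `y` under conjugation by `v` -/
def orbOK (Cs : List (List ℕ)) (zc : List ℕ) (rc wc vc vic : ℕ) (certs : List (ℕ × ℕ × ℕ × ℕ)) : Bool :=
  certs.all fun t =>
    sqB (cwW Cs t.1) rc && Nat.blt t.2.1 zc.length &&
      Nat.beq (cmp (cwW Cs t.2.2.1) (cmp (cwW Cs t.1) wc)) (cmp (zc.getD t.2.1 0) (cwW Cs t.2.2.1)) &&
      cycB vc vic (cwW Cs t.1) t.2.2.2 (cwW Cs t.1)

/-- conjugation by `v` as a permutation -/
def conjPerm {G : Type*} [Group G] (v : G) : Equiv.Perm G := (MulAut.conj v).toEquiv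

theorem conjPerm_apply {G : Type*} [Group G] (v y : G) : conjPerm v y = v * y * v⁻¹ := rfl

theorem card_sqrt_class_of_orbs {H : Subgroup (Equiv.Perm GolayPt)} [Fintype ↥H] {k0 : ℕ}
    {Ls : List (List (List ℕ))}
    (hch : chainOK k0 Ls = true) (hH : ∀ w, eltW Ls w ∈ H) (zc : List ℕ) (z : ℕ → ↥H)
    (hz : ∀ k < zc.length, codeOf (z k).1 = zc.getD k 0)
    (hdisj : ∀ k < zc.length, ∀ l < zc.length, IsConj (z k) (z l) → k = l)
    (r w v : ↥H) (hvr : v * r = r * v) (hvw : v * w = w * v) (rc wc vc vic : ℕ) (hr : codeOf r.1 = rc)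
    (hw : codeOf w.1 = wc) (hv : codeOf v.1 = vc) (hvi : codeOf (v⁻¹).1 = vic)
    (certs : List (ℕ × ℕ × ℕ × ℕ)) (hok : orbOK (codes Ls) zc rc wc vc vic certs = true)
    (hinc : incB (certs.map fun t => cwW (codes Ls) t.1) = true)
    (hN : Nat.card {y : ↥H // y * y = r} ≤ (certs.map fun t => t.2.2.2).sum) (k : ℕ) (hk : k < zc.length) :
    Nat.card {y : ↥H // y * y = r ∧ IsConj (z k) (y * w)} =
      ((certs.filter fun t => Nat.beq t.2.1 k).map fun t => t.2.2.2).sum := by
  classical
  let e : ℕ × ℕ × ℕ × ℕ → ↥H := fun t => ⟨eltW Ls t.1, hH _⟩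
  let R : List (↥H × ℕ) := certs.map fun t => (e t, t.2.2.2)
  let key : ↥H → ℕ := fun y => codeOf y.1
  have hkey : Function.Injective key := fun a b h => Subtype.ext (codeOf_injective h)
  have hcode : ∀ t, key (e t) = cwW (codes Ls) t.1 := fun t => codeOf_eltW hch t.1
  -- the codes of the iterates
  have hiter : ∀ (i : ℕ) (y : ↥H), key ((conjPerm v ^ i) y) = (cjC vc vic)^[i] (key y) := by
    intro i
    induction i with
    | zero => intro y; rfl
    | succ i ih =>
      intro y
      rw [pow_succ', Equiv.Perm.mul_apply, Function.iterate_succ_apply']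
      rw [← ih y]
      show codeOf (v * (conjPerm v ^ i) y * v⁻¹ : ↥H).1 = _
      rw [Subgroup.coe_mul, Subgroup.coe_mul, codeOf_mul, codeOf_mul, hv, hvi]
      rfl
  have hR1 : (R.map Prod.fst).Nodup := by
    have hnd := incB_nodup _ hinc
    have : (R.map Prod.fst).map key = certs.map fun t => cwW (codes Ls) t.1 := by
      rw [List.map_map, List.map_map]
      apply List.map_congr_left
      intro t _
      rw [Function.comp_apply, Function.comp_apply]
      exact hcode t
    rw [← this] at hnd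
    exact List.Nodup.of_map _ hnd
  -- what the check says about an entry
  have hent : ∀ t ∈ certs, e t * e t = r ∧ t.2.1 < zc.length ∧ IsConj (z t.2.1) (e t * w) ∧
      IsCycRep (conjPerm v) key (e t) t.2.2.2 := by
    intro s hs
    unfold orbOK at hok
    rw [List.all_eq_true] at hok
    have := hok s hs
    rw [Bool.and_eq_true, Bool.and_eq_true, Bool.and_eq_true] at this
    obtain ⟨⟨⟨ha, hb⟩, hc⟩, hd⟩ := this
    have hb' : s.2.1 < zc.length := by simpa [Nat.blt] using hb
    refine ⟨?_, hb', ?_, ?_⟩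
    · apply Subtype.ext
      rw [← codeOf_eltW hch, ← hr, sqB_iff] at ha
      exact ha
    · have hc' := Nat.eq_of_beq_eq_true hc
      rw [← codeOf_eltW hch, ← codeOf_eltW hch, ← hw, ← hz _ hb', ← codeOf_mul, ← codeOf_mul,
        ← codeOf_mul] at hc'
      have hc'' := codeOf_injective hc'
      let g : ↥H := ⟨eltW Ls s.2.2.1, hH _⟩
      have hsemi : g * (e s * w) = z s.2.1 * g := Subtype.ext hc''
      have : IsConj (e s * w) (z s.2.1) := by
        rw [isConj_iff]
        exact ⟨g, by rw [hsemi]; group⟩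
      exact this.symm
    · obtain ⟨h1, h2, h3⟩ := cycB_spec vc vic _ _ _ hd
      rw [← hcode s] at h2 h3
      refine ⟨h1, ?_, ?_⟩
      · apply hkey
        rw [hiter]
        exact h2
      · intro i hi hi'
        rw [hiter]
        exact h3 i hi hi'
  have hRS : ∀ p ∈ R, p.1 ∈ Finset.univ.filter (fun y : ↥H => y * y = r) ∧
      IsCycRep (conjPerm v) key p.1 p.2 := by
    intro p hp
    rw [List.mem_map] at hp
    obtain ⟨s, hs, rfl⟩ := hp
    obtain ⟨h1, -, -, h4⟩ := hent s hs
    exact ⟨by rw [Finset.mem_filter]; exact ⟨Finset.mem_univ _, h1⟩, h4⟩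
  have hf : ∀ x ∈ Finset.univ.filter (fun y : ↥H => y * y = r),
      conjPerm v x ∈ Finset.univ.filter (fun y : ↥H => y * y = r) := by
    intro x hx
    rw [Finset.mem_filter] at hx ⊢
    refine ⟨Finset.mem_univ _, ?_⟩
    rw [conjPerm_apply]
    calc v * x * v⁻¹ * (v * x * v⁻¹) = v * (x * x) * v⁻¹ := by group
      _ = v * r * v⁻¹ := by rw [hx.2]
      _ = r := by rw [hvr]; group
  have hP : ∀ x : ↥H, IsConj (z k) (conjPerm v x * w) ↔ IsConj (z k) (x * w) := by
    intro x
    have e1 : conjPerm v x * w = v * (x * w) * v⁻¹ := by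
      rw [conjPerm_apply]
      calc v * x * v⁻¹ * w = v * x * (v⁻¹ * w * v) * v⁻¹ := by group
        _ = v * x * (v⁻¹ * (w * v)) * v⁻¹ := by group
        _ = v * x * (v⁻¹ * (v * w)) * v⁻¹ := by rw [hvw]
        _ = v * (x * w) * v⁻¹ := by group
    rw [e1]
    constructor
    · intro h; exact h.trans (isConj_iff.mpr ⟨v⁻¹, by group⟩)
    · intro h; exact h.trans (isConj_iff.mpr ⟨v, rfl⟩)
  have hsum : (Finset.univ.filter (fun y : ↥H => y * y = r)).card ≤ (R.map Prod.snd).sum := by
    rw [← Fintype.card_subtype, ← Nat.card_eq_fintype_card, List.map_map]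
    exact hN
  have main := card_filter_of_cycReps (Finset.univ.filter (fun y : ↥H => y * y = r)) (conjPerm v) hf key hkey R
    hR1 hRS hsum (fun y => IsConj (z k) (y * w)) hP
  rw [Nat.card_eq_fintype_card, Fintype.card_subtype, ← Finset.filter_filter, main]
  -- compare the two filtered sums
  have hfilt : R.filter (fun p => decide (IsConj (z k) (p.1 * w))) =
      (certs.filter fun t => Nat.beq t.2.1 k).map fun t => (e t, t.2.2.2) := by
    rw [List.filter_map]
    congr 1
    apply List.filter_congr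
    intro s hs
    obtain ⟨-, h2, h3, -⟩ := hent s hs
    rw [Function.comp_apply]
    by_cases hsk : s.2.1 = k
    · rw [hsk] at h3
      rw [decide_eq_true h3, hsk]
      exact (Nat.beq_refl k).symm
    · have h4 : ¬ IsConj (z k) (e s * w) := fun h => hsk (hdisj _ h2 _ hk (h3.trans h.symm))
      rw [decide_eq_false h4]
      symm
      rw [Bool.eq_false_iff]
      intro h5
      exact hsk (Nat.eq_of_beq_eq_true h5)
  rw [hfilt, List.map_map]
  rfl

/-! ### One pass over the entries, in pieces -/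

/-- the check of one entry with key `y`, above `lo` -/
def orbEnt (Cs : List (List ℕ)) (zc : List ℕ) (rc wc vc vic lo : ℕ) (t : ℕ × ℕ × ℕ × ℕ) (y : ℕ) : Bool :=
  Nat.blt lo y && (sqB y rc && Nat.blt t.2.1 zc.length &&
      Nat.beq (cmp (cwW Cs t.2.2.1) (cmp y wc)) (cmp (zc.getD t.2.1 0) (cwW Cs t.2.2.1)) &&
      cycB vc vic y t.2.2.2 y)

/-- the check of the entries, with keys increasing from above `lo` up to at most `hi` -/
def orbGo (Cs : List (List ℕ)) (zc : List ℕ) (rc wc vc vic : ℕ) : ℕ → ℕ → List (ℕ × ℕ × ℕ × ℕ) → Bool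
  | lo, hi, [] => Nat.ble lo hi
  | lo, hi, t :: ts =>
    orbEnt Cs zc rc wc vc vic lo t (cwW Cs t.1) && orbGo Cs zc rc wc vc vic (cwW Cs t.1) hi ts

theorem orbGo_le {Cs : List (List ℕ)} {zc : List ℕ} {rc wc vc vic : ℕ} :
    ∀ {lo hi : ℕ} {ts : List (ℕ × ℕ × ℕ × ℕ)}, orbGo Cs zc rc wc vc vic lo hi ts = true → lo ≤ hi
  | lo, hi, [], h => by
    rw [orbGo] at h
    exact Nat.le_of_ble_eq_true h
  | lo, hi, t :: ts, h => by
    rw [orbGo, Bool.and_eq_true] at h
    have h1 := orbGo_le h.2
    have h2 := h.1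
    unfold orbEnt at h2
    rw [Bool.and_eq_true] at h2
    have h3 : lo < cwW Cs t.1 := by
      have := h2.1
      simpa [Nat.blt] using this
    omega

theorem orbGo_mono {Cs : List (List ℕ)} {zc : List ℕ} {rc wc vc vic : ℕ} {lo lo' hi : ℕ}
    {ts : List (ℕ × ℕ × ℕ × ℕ)} (hlo : lo' ≤ lo) (h : orbGo Cs zc rc wc vc vic lo hi ts = true) :
    orbGo Cs zc rc wc vc vic lo' hi ts = true := by
  cases ts with
  | nil =>
    rw [orbGo] at h ⊢
    exact Nat.ble_eq_true_of_le (le_trans hlo (Nat.le_of_ble_eq_true h))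
  | cons t ts =>
    rw [orbGo, Bool.and_eq_true] at h ⊢
    refine ⟨?_, h.2⟩
    have h2 := h.1
    unfold orbEnt at h2 ⊢
    rw [Bool.and_eq_true] at h2 ⊢
    refine ⟨?_, h2.2⟩
    have h3 : lo < cwW Cs t.1 := by
      have := h2.1
      simpa [Nat.blt] using this
    have : lo' < cwW Cs t.1 := lt_of_le_of_lt hlo h3
    simpa [Nat.blt] using this

theorem orbGo_append {Cs : List (List ℕ)} {zc : List ℕ} {rc wc vc vic : ℕ} :
    ∀ {lo mid hi : ℕ} {A B : List (ℕ × ℕ × ℕ × ℕ)}, orbGo Cs zc rc wc vc vic lo mid A = true →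
      orbGo Cs zc rc wc vc vic mid hi B = true → orbGo Cs zc rc wc vc vic lo hi (A ++ B) = true
  | lo, mid, hi, [], B, hA, hB => by
    rw [orbGo] at hA
    rw [List.nil_append]
    exact orbGo_mono (Nat.le_of_ble_eq_true hA) hB
  | lo, mid, hi, t :: A, B, hA, hB => by
    rw [orbGo, Bool.and_eq_true] at hA
    rw [List.cons_append, orbGo, Bool.and_eq_true]
    exact ⟨hA.1, orbGo_append hA.2 hB⟩

theorem orbGo_spec {Cs : List (List ℕ)} {zc : List ℕ} {rc wc vc vic : ℕ} :
    ∀ {lo hi : ℕ} {ts : List (ℕ × ℕ × ℕ × ℕ)}, orbGo Cs zc rc wc vc vic lo hi ts = true →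
      orbOK Cs zc rc wc vc vic ts = true ∧ incB (ts.map fun t => cwW Cs t.1) = true ∧
        ∀ x ∈ ts.map (fun t => cwW Cs t.1), lo < x
  | lo, hi, [], _ => ⟨rfl, rfl, by simp⟩
  | lo, hi, t :: ts, h => by
    rw [orbGo, Bool.and_eq_true] at h
    obtain ⟨ih1, ih2, ih3⟩ := orbGo_spec h.2
    have h2 := h.1
    unfold orbEnt at h2
    rw [Bool.and_eq_true] at h2
    have hlt : lo < cwW Cs t.1 := by
      have := h2.1
      simpa [Nat.blt] using this
    refine ⟨?_, ?_, ?_⟩
    · unfold orbOK at ih1 ⊢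
      rw [List.all_cons, Bool.and_eq_true]
      exact ⟨h2.2, ih1⟩
    · rw [List.map_cons]
      cases ts with
      | nil => rfl
      | cons s ts =>
        rw [List.map_cons, incB, Bool.and_eq_true]
        refine ⟨?_, ih2⟩
        have := ih3 (cwW Cs s.1) (by simp)
        simpa [Nat.blt] using this
    · intro x hx
      rw [List.map_cons, List.mem_cons] at hx
      rcases hx with rfl | hx
      · exact hlt
      · exact lt_trans hlt (ih3 x hx)

/-- the entry packed in one number: words of 35 bits, class of 5 bits -/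
def unpk (e : ℕ) : ℕ × ℕ × ℕ × ℕ :=
  (Nat.mod e 34359738368, Nat.mod (Nat.div e 34359738368) 32,
    Nat.mod (Nat.div e 1099511627776) 34359738368, Nat.div e 37778931862957161709568)

/-- the sum of the cycle lengths of the entries of class `k` -/
def clsSum (certs : List (ℕ × ℕ × ℕ × ℕ)) (k : ℕ) : ℕ :=
  ((certs.filter fun t => Nat.beq t.2.1 k).map fun t => t.2.2.2).sum

end Cfsg.Agent.Lib.Helper4.Blk
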