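import Mathlib
import Cfsg.Agent.Lib.Helper4.Blk.M24Orb8_1
import Cfsg.Agent.Lib.Helper4.Blk.M24Enum
import Cfsg.Agent.Lib.Helper4.Blk.M24Data
import Cfsg.Agent.Lib.Helper4.Blk.OrbCert

set_option autoImplicit false
set_option maxRecDepth 100000

/-! Representatives of the square roots under conjugation with conjugators in `M24`: representative 11, piece 2. -/

namespace Cfsg.Agent.Lib.Helper4.Blk.M24

open Cfsg Cfsg.Agent.Lib.Helper3.Golay Cfsg.Agent.Lib.Helper4.Blk

/-- packed entries: word of the square root, class, word of the conjugator, length of the cycle -/
def orb11_2 : List ℕ := [
  808715173164803222224420, 808782953384470920081476, 800514909377910436966596,
  793359381874189822133828, 793412162362098962372164, 800481873801453260723716,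
  801699654336929134661188, 793435368468807881340324, 801637977619213268335140,
  800483777345184880403684, 811113788967157544401476, 808801258276441474503364,
  795773568390985371648484, 796987362448977252720196, 809972322424359608531524,
  799310831542421521711300, 800482886746102857670148, 802815687527450889167268,
  793432927931121059242118, 800447109316398930904198, 798122681607195398847622,
  793363595121276235465862, 807574717568947473465478, 798171060545583751306374,
  808719154957714766365830, 805179099577025430130822, 811123456282408343091398,
  800447373622269617409062, 805203933717195981655078, 798123176467716943362246,
  806381060585487103296742, 800445784084909150220614, 801700226556667505251366,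
  793404957874838695096518, 808708013072267344446022, 805200893516098993212806,
  805215858305860206350758, 800490878459335077538214, 806430857031672471226470,
  807580333766282890985958, 804021535071135357025734, 799312880609772632626662,
  799298017442684952754662, 795741292036010935323078, 796981278475618928988550,
  806427357809562088544422, 802822243628461895979430, 794545339501113059254502,
  811125584844702469194150, 811117571252777992146310, 806385173586942675237350,
  811081972284540028296294, 795738876882574985760198, 806388184552220907383399,
  808719757391535545812583, 807542018712807757424231, 811110799935943350004199,
  798163654309029402913927, 808713923485780370149031, 798136862395745938524359,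
  794546542487425724431495, 811150773347434335804488, 811121244687376534637000,
  55578262861573001314327]

theorem orb11_2_ok : orbGo CS ZC 984818244535754528103549039458486304 148371417458508398596901442487868869 927042327755655630645441865946053860 694653795622229287909646300789159212 190825409460743815063576381807141941 984818244535754528103549039458486304
    (orb11_2.map unpk) = true := by
  decide +kernel

end Cfsg.Agent.Lib.Helper4.Blk.M24
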