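import Mathlib
import Cfsg.Agent.Lib.Helper4.Blk.M24Orb6_0
import Cfsg.Agent.Lib.Helper4.Blk.M24Enum
import Cfsg.Agent.Lib.Helper4.Blk.M24Data
import Cfsg.Agent.Lib.Helper4.Blk.OrbCert

set_option autoImplicit false
set_option maxRecDepth 100000

/-! Representatives of the square roots under conjugation with conjugators in `M24`: representative 10, piece 0. -/

namespace Cfsg.Agent.Lib.Helper4.Blk.M24

open Cfsg Cfsg.Agent.Lib.Helper3.Golay Cfsg.Agent.Lib.Helper4.Blk

/-- packed entries: word of the square root, class, word of the conjugator, length of the cycle -/
def orb10_0 : List ℕ := [
  43739809859103770266976, 51963922996234997044576, 47227450783892984989024,
  38998833484190947981664, 54327436067626839200865, 44949104021725133711617,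
  43776868797359736503777, 55565060080812502127841, 55583648702563780926467,
  55532850407746866455555, 43776542828449161882627, 41379831550477016934403,
  42577768497216023370820, 40153421531727463587940, 42541048645741270506820,
  55571443841302230809860, 47234238330890449299749, 55571483325732151890341,
  51989001530186207138277, 43726907547547637678149, 54310228993021563819270,
  53205750146635025425574, 41401504226472528981030, 41327933389987399467622,
  38961204668197234903495, 53149005283027681903047, 49604925456166688363975,
  40155687723115451227591, 40148341127204965454888, 46061827558479148469768,
  50784183931127901623560, 46061896262561698229736, 46120589424502491358825,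
  51951055818208168190633, 54359714707318794276137, 37793098312969959589289,
  47318719715768876484042, 43769848879622039049898, 37800933436124752358890,
  37829136464837795363210, 54392685470063075087052, 49664803265120252339820,
  46047765555455826669708, 44899435074870671620620, 48412888029360610980302,
  49673808028889074218222, 37875293243688290003470, 54392066899082691056686,
  41332722906404754151119, 51989855117411128723151, 55529319320889741416143,
  37791839442725671998159, 47277204270034079363760, 54357021698749717656272,
  41405395178234889478256, 42540574564080330946864, 43731983629896333766801,
  44904640176141808907473, 48463721420587692141009, 42508587546523803327825,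
  49592350436588918125010, 43725853565733165040722, 50852143108707318085266,
  48486453212099058672050, 53137617677520133568979, 48407882378775067442835,
  53130822969094202180275, 44914867536449204917395, 50843207007447852140116,
  53136426935726512621908, 51968209923906223065748, 48485436803798834481844,
  37854074513151067795093, 55574707693187519370933, 55535094639648904091157,
  40223237068034902800085, 47239303760062478525526, 41321054883512164419030,
  48407865596543649555894, 55489689256882923425014]

theorem orb10_0_ok : orbGo CS ZC 95532253969703581377267970667994755 858599248442641125409621228086428695 984818244535754528103549039458486304 984818244535754528103549039458486304 0 917055487651399167434765345872815634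
    (orb10_0.map unpk) = true := by
  decide +kernel

end Cfsg.Agent.Lib.Helper4.Blk.M24
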