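import Mathlib
import Cfsg.Agent.Lib.Helper4.Blk.M24Orb10_0
import Cfsg.Agent.Lib.Helper4.Blk.M24Enum
import Cfsg.Agent.Lib.Helper4.Blk.M24Data
import Cfsg.Agent.Lib.Helper4.Blk.OrbCert

set_option autoImplicit false
set_option maxRecDepth 100000

/-! Representatives of the square roots under conjugation with conjugators in `M24`: representative 12, piece 2. -/

namespace Cfsg.Agent.Lib.Helper4.Blk.M24

open Cfsg Cfsg.Agent.Lib.Helper3.Golay Cfsg.Agent.Lib.Helper4.Blk

/-- packed entries: word of the square root, class, word of the conjugator, length of the cycle -/
def orb12_2 : List ℕ := [
  802896049216470306340388, 811113857980030930956356, 807574796645514444452036,
  798126562043077152278084, 796901013332659337926212, 802877654545182391490052,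
  802824946333722725699140, 808714053581478947730852, 811071415941950543018532,
  795739006849483682358500, 809894073215247410674244, 800450723532078641877700,
  806398464061254612845028, 802818806985884688588356, 794629372901037150976580,
  805257434472001100071108, 800462508344817099152900, 796979276305205765874084,
  795721767155738918264966, 807615102701363584484486, 811123093552368034331782,
  794588400720284682208390, 806430985642853241831558, 807528496184781195910278,
  809888320373331980649606, 803998216513124531015814, 806351125652476964419782,
  809969314812381315238950, 801707099324647719898150, 793365013924787480148166,
  809890551892888810816742, 793413379003823135699270, 804075855010344235013158,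
  793434816075163626680518, 798158785792221647569478, 793450459427589655448966,
  807616292814948551643558, 805221468158882533878182, 805242257345613060376678,
  804077627369214328717798, 811070336077345708391878, 804058532123284806391270,
  804040651397077870426598, 802849626653495438346694, 800493478974139558695302,
  798123193476029070088358, 794620400210948060877222, 801662393365652593385702,
  794552680597268503855526, 798134181997204119571846, 794552723824463943154150,
  794622903081806629805158, 808786553947507200200134, 803993783431736204569191,
  805176889857851732035175, 794620214725285269579367, 808762204959154469710311,
  796975701893336276151431, 805184649625533740109479, 808742205735477590968519,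
  804067669912489030827143, 793435034080794007280712, 799260617457838298663368,
  38965547698399869927447]

theorem orb12_2_ok : orbGo CS ZC 984818244535754528103549039458486304 103060378233643035302007805959714979 927042327755655630645441865946053860 694653795622229287909646300789159212 190825409460743815063576381807141941 984818244535754528103549039458486304
    (orb12_2.map unpk) = true := by
  decide +kernel

end Cfsg.Agent.Lib.Helper4.Blk.M24
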