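import Mathlib
import Cfsg.Agent.Lib.Helper4.Blk.M24Orb11_1
import Cfsg.Agent.Lib.Helper4.Blk.M24Enum
import Cfsg.Agent.Lib.Helper4.Blk.M24Data
import Cfsg.Agent.Lib.Helper4.Blk.OrbCert

set_option autoImplicit false
set_option maxRecDepth 100000

/-! Representatives of the square roots under conjugation with conjugators in `M24`: representative 14, piece 0. -/

namespace Cfsg.Agent.Lib.Helper4.Blk.M24

open Cfsg Cfsg.Agent.Lib.Helper3.Golay Cfsg.Agent.Lib.Helper4.Blk

/-- packed entries: word of the square root, class, word of the conjugator, length of the cycle -/
def orb14_0 : List ℕ := [
  44945605913751842128480, 54353680021389185693280, 42515150515940265959008,
  49598801351569104673376, 50817735995717212884065, 54394991413102052091393,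
  47260975191629888868417, 49640931506702754819489, 44869742853528944759458,
  50787905971476197640770, 47228437976261229488258, 44919659806451678890274,
  46091942461912748396995, 41373183794219684764995, 46120659659204992546403,
  42585939639929008526371, 42591746856829377217028, 53219022548665165493764,
  48411767615009653922308, 55580729703851565888004, 43759218680246629409061,
  41412453297177958336741, 55546684271968748849605, 49643956035347095718501,
  52034159371445816382695, 42502832998573346504167, 55494854565873703077127,
  37869271136133035075207, 48423063697318597789928, 39033802563246592922088,
  49639551539477650741768, 41359303215516471598152, 53203339583954462781673,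
  39012092233266281687305, 50840884433170154790473, 43735517864888348846601,
  41324889035592574698634, 37825632725890750661962, 48478767630284414494762,
  37866054005905874530378, 42544143957930121122891, 41408978651558709766827,
  44870598675989114626091, 55491820079911410453035, 41409829182970293455308,
  55582577781784913843756, 51963349457776284931500, 40196698336060981153356,
  39009681742374955920397, 43728304393643149964301, 41360037455957608110093,
  46052353027087521158157, 55525874363084103167278, 43758171562305318298158,
  46054731977974549256334, 48407878945748599133870, 51966267166152637981872,
  42545764146714497849616, 38977521570422263007344, 46093161610067154510224,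
  48460877312768127015025, 50804653002755235421617, 46081155973438349266577,
  37787337392099678328433, 46125293674103412315378, 55503950952115060785842,
  42543321689387613589106, 43700926862943265632594, 46087330316062197915283,
  50845334191914325968275, 49591876719561056291987, 43704387252437558840819,
  49670403163943898298516, 42548140302389507403924, 42545767463077760404628,
  40148912488589882936468, 54348722391531490658870, 47303270040689348643958,
  44873489099650459969238, 48489039399099799273878]

theorem orb14_0_ok : orbGo CS ZC 268017568070679841489133279751187629 485854488737337335798300813272580848 984818244535754528103549039458486304 984818244535754528103549039458486304 0 922425594391782286544533223769194913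
    (orb14_0.map unpk) = true := by
  decide +kernel

end Cfsg.Agent.Lib.Helper4.Blk.M24
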