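import Mathlib
import Cfsg.Agent.Lib.Helper4.Blk.M24Orb13_0
import Cfsg.Agent.Lib.Helper4.Blk.M24Enum
import Cfsg.Agent.Lib.Helper4.Blk.M24Data
import Cfsg.Agent.Lib.Helper4.Blk.OrbCert

set_option autoImplicit false
set_option maxRecDepth 100000

/-! Representatives of the square roots under conjugation with conjugators in `M24`: representative 16, piece 0. -/

namespace Cfsg.Agent.Lib.Helper4.Blk.M24

open Cfsg Cfsg.Agent.Lib.Helper3.Golay Cfsg.Agent.Lib.Helper4.Blk

/-- packed entries: word of the square root, class, word of the conjugator, length of the cycle -/
def orb16_0 : List ℕ := [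
  ]

theorem orb16_0_ok : orbGo CS ZC 91162484417432021587019894916930723 215905628115399343438292405234762775 984818244535754528103549039458486304 984818244535754528103549039458486304 0 0
    (orb16_0.map unpk) = true := by
  decide +kernel

end Cfsg.Agent.Lib.Helper4.Blk.M24
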