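import Mathlib
import Cfsg.Agent.Lib.Helper4.Blk.M24Orb20_2
import Cfsg.Agent.Lib.Helper4.Blk.M24Enum
import Cfsg.Agent.Lib.Helper4.Blk.M24Data
import Cfsg.Agent.Lib.Helper4.Blk.OrbCert

set_option autoImplicit false
set_option maxRecDepth 100000

/-! Representatives of the square roots under conjugation with conjugators in `M24`: representative 22, piece 2. -/

namespace Cfsg.Agent.Lib.Helper4.Blk.M24

open Cfsg Cfsg.Agent.Lib.Helper3.Golay Cfsg.Agent.Lib.Helper4.Blk

/-- packed entries: word of the square root, class, word of the conjugator, length of the cycle -/
def orb22_2 : List ℕ := [
  805168640130547362340195, 798175676139038906586371, 796938809455877405844675,
  794624182108661022656003, 808723899095643413794339, 801621819209145512342115,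
  794557039848371872320611, 794596000522805154261507, 805209946910143929794915,
  793409757280616909473283, 800461406972744807136771, 809906015050525611151779,
  799312926239683393299907, 800496683784382894747715, 799268075812068430809603,
  801671523777077914379779, 808754282412728380790083, 808758962767847902778915,
  807582618168671476339011, 801681234745024472819203, 811077552742739835364867,
  801636172114362575068675, 799274880391810982746659, 796920370500787068240997,
  806385852436420061628901, 796989381592234656400485, 809903455795371814629797,
  793445312249245951068453, 796982787141329687391269, 793377289983872304456197,
  796981388405333684261925, 794581485606848649449029, 804027186023179717479717,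
  801670137031321717343877, 805168749706600516769253, 804070100555498975970725,
  807617195047459509012517, 809974781109373178101797, 811119997583733109764197,
  799355301632255928473061, 799313964255621601925509, 811075865398012245263845,
  801643946594198469842501, 801623494023867655174277, 808719217365164794879013,
  802821169100178920248357, 805254682368272657385989, 794550122998044615394437,
  799269254696712661291653, 800518944592452046313127, 800493109680825483495047,
  801672812058593584351431, 282209929961330303455655, 794551479422424819382759,
  800460989891831504554183, 799265145752331449044455, 793443192885877400643911,
  794540737174209533431079, 794585633521501734356647, 799312922423162641208680,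
  801700329830808704947240, 124057362374581937088872, 806400581970406317574346,
  54381652915924338999319]

theorem orb22_2_ok : orbGo CS ZC 984818244535754528103549039458486304 238057270025533207848113692782273127 919172247352013186399805127999638757 238057270025533207848113692782273127 150604598191467198794216135890554037 984818244535754528103549039458486304
    (orb22_2.map unpk) = true := by
  decide +kernel

end Cfsg.Agent.Lib.Helper4.Blk.M24
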