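import Mathlib
import Cfsg.Agent.Lib.Helper4.Blk.M24Orb21_2
import Cfsg.Agent.Lib.Helper4.Blk.M24Enum
import Cfsg.Agent.Lib.Helper4.Blk.M24Data
import Cfsg.Agent.Lib.Helper4.Blk.OrbCert

set_option autoImplicit false
set_option maxRecDepth 100000

/-! Representatives of the square roots under conjugation with conjugators in `M24`: representative 23, piece 2. -/

namespace Cfsg.Agent.Lib.Helper4.Blk.M24

open Cfsg Cfsg.Agent.Lib.Helper3.Golay Cfsg.Agent.Lib.Helper4.Blk

/-- packed entries: word of the square root, class, word of the conjugator, length of the cycle -/
def orb23_2 : List ℕ := [
  799306075764195261455715, 808723175037383274468611, 808749221149416947754179,
  805173861710198200534531, 800453013172608279236131, 795759434628337715622499,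
  802805059639335857933411, 806355682798194914339331, 801660422966050908946787,
  811109609421138654496259, 807574581386393234357763, 807607836592833120457123,
  793451481573057706272195, 799347335628829005099075, 805163796541993861089795,
  793411951992485467661827, 802891199007618737083715, 805167068144753256273443,
  794586640428549335896387, 798138280936992554493443, 794558501398391256524291,
  806390929341172315299331, 809937204758403183942179, 806366679716465973953637,
  800487924176351974984165, 804060190579317223326821, 804038906752257461793189,
  809974756408397710493989, 807602250082864645516325, 805164680687855298716165,
  798167933726484363088933, 800498916297218609860165, 808764212347359058234661,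
  799304773617136752428677, 793403194469015828387301, 800531381306529075742117,
  793359460792654824245285, 798090510554568085618725, 796937906567857843679333,
  809971511976537726817765, 799350858427630893767045, 803989175283746535982565,
  806357178331200376903237, 796979093168353257371781, 805173120151314319318053,
  795720503862239897523237, 805240263871929922193925, 794612311936496915858565,
  803995666048630557954693, 795763761943737158358695, 798092696841977450301063,
  798155499576472679876807, 265644972966384076738983, 793435523141402522499559,
  796948321027711361599687, 798168731179430545231335, 793452737061322379995463,
  796917804950214032870695, 799311444159708561589927, 798133662481450768946536,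
  804027900861010567140392, 123968402826083709331816, 805171075314909674293450,
  42507438516525837844503]

theorem orb23_2_ok : orbGo CS ZC 984818244535754528103549039458486304 919172247352013186399805127999638757 919172247352013186399805127999638757 238057270025533207848113692782273127 150604598191467198794216135890554037 984818244535754528103549039458486304
    (orb23_2.map unpk) = true := by
  decide +kernel

end Cfsg.Agent.Lib.Helper4.Blk.M24
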