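import Mathlib
import Cfsg.Agent.Lib.Helper4.Blk.M24Enum
import Cfsg.Agent.Lib.Helper4.Blk.M24Data
import Cfsg.Agent.Lib.Helper4.Blk.OrbCert

set_option autoImplicit false
set_option maxRecDepth 100000

/-! Representatives of the square roots under conjugation with conjugators in `M24`: representative 2, piece 0. -/

namespace Cfsg.Agent.Lib.Helper4.Blk.M24

open Cfsg Cfsg.Agent.Lib.Helper3.Golay Cfsg.Agent.Lib.Helper4.Blk

/-- packed entries: word of the square root, class, word of the conjugator, length of the cycle -/
def orb2_0 : List ℕ := [
  49596429684851074415297, 54322277342473021307585, 44918451800312215255745,
  49669304729504665057985, 37871242689029972970530, 55505297363271787498530,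
  40183251189893400382498, 41342906292832263752738, 44905681431256197836227,
  41360576574996089482691, 47266347223815480225219, 46043373122008423935427,
  44879789504719443152100, 41372964433843817317604, 49678398623040386733284,
  50783112943027500530916, 53168835596257894970597, 51998569333104129455333,
  37822861683705784153317, 43682615433353913545957, 55488252574583505926598,
  44879923237215963427270, 48421694774454765226438, 54399501492177243544006,
  54397833932169145587207, 42580251102877044712967, 40225873964862015801863,
  37779378263826577654279, 49679649176791363761800, 49586613634262207406728,
  55488461781972351733384, 50816719302626341392008, 43777842835811779217641,
  51957600535886125640937, 53144333944990157082857, 42506489871638413708521,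
  43739828194363240879498, 37852877120804531622282, 51998353614418169384330,
  46087181619105025309066, 53163748508890822989259, 42507717488476151815627,
  54402438819901848291787, 42501464528469926416843, 51997352382634033133868,
  43776508767577211125036, 49672559757803752827180, 53127064672318906499372,
  49607370632596485612589, 39049999864753211162669, 42539425311450652381229,
  37780826171100354682925, 55495917764925234629167, 53214790326852396849711,
  53141763492427050793519, 54307238799671895871023, 53139701687115660265936,
  53142014586786208616912, 42521382149705108233680, 55527697006680634414544,
  43725931947388487390674, 52020154390117631966674, 53163852137860735544786,
  54326106772157461312978, 52003969539381875745491, 41410025071960797560531,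
  44939850635242485691091, 41368053369499732225747, 41375338920463429054804,
  44937652493799476830548, 40197113943563247468884, 47306214166346522495316,
  38979641487864209126709, 40219138015775252710709, 43722503762481278750005,
  44936287253303185099061, 37825453120468739789046, 47224243740503980712182,
  44936862103277433007350, 39004711976961531380982]

theorem orb2_0_ok : orbGo CS ZC 23998713586146347121374253096797271 984818244535754528103549039458486304 984818244535754528103549039458486304 984818244535754528103549039458486304 0 914642222499066791204097987060051378
    (orb2_0.map unpk) = true := by
  decide +kernel

end Cfsg.Agent.Lib.Helper4.Blk.M24
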