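import Mathlib
import Cfsg.Agent.Lib.Helper4.Blk.M24Orb2_0
import Cfsg.Agent.Lib.Helper4.Blk.M24Enum
import Cfsg.Agent.Lib.Helper4.Blk.M24Data
import Cfsg.Agent.Lib.Helper4.Blk.OrbCert

set_option autoImplicit false
set_option maxRecDepth 100000

/-! Representatives of the square roots under conjugation with conjugators in `M24`: representative 4, piece 2. -/

namespace Cfsg.Agent.Lib.Helper4.Blk.M24

open Cfsg Cfsg.Agent.Lib.Helper3.Golay Cfsg.Agent.Lib.Helper4.Blk

/-- packed entries: word of the square root, class, word of the conjugator, length of the cycle -/
def orb4_2 : List ℕ := [
  798120441335517424328804, 802894972150650856945092, 796904699413658094666980,
  804003955426337434389060, 804079112671061108603076, 800448443440274860324164,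
  804078876903869401617444, 798118018691619928686052, 798124332776844755059236,
  794559174153336885688740, 796977937795277022304900, 801626940676435113131364,
  811077083552613943320196, 811152091248709845715044, 807599903032798847801444,
  799275774732499903135972, 795814589583330805107268, 803998532957069992665476,
  798098462445524891513412, 805253674964414320879076, 807599620443881586736388,
  793364815640059922791812, 807545625141972587063812, 801635993832834272396612,
  809922819017392268611684, 795775718010091051729252, 805219301091114596010084,
  800454099841810275894373, 806428504351841892926565, 800478384272402232625445,
  800486635744258979611781, 793375048004139488516773, 800532438587371296953381,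
  811084963623696800585317, 806426126172982779168165, 798084557709482847719717,
  811114959058677561143845, 802885364640687127303621, 798093018932770940504101,
  806359148958972067091493, 799297458185776336000613, 806348195777322680364069,
  798166889124816242313765, 794593524743532990995493, 800456578838267466173829,
  807534002901655414249573, 793363590552140698129765, 801623118273816475112485,
  809939265646874342922629, 794591608672140935017893, 798133157685568169219685,
  794615419382755514388837, 798120442259518368389351, 811151347654423813165095,
  799356449609254599673351, 809908057307429808351751, 805258458451643618895175,
  796978361341004073674951, 799320055385905113926823, 795756240457170720051912,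
  794593977955429095115272, 807539123421935941429705, 807604258509596674106857,
  42510903458542659829783]

theorem orb4_2_ok : orbGo CS ZC 984818244535754528103549039458486304 47647424836001771324150967149086743 933742879666083459242932253941123221 528330430071195960715970366286663182 182311022425638359491273990187036264 984818244535754528103549039458486304
    (orb4_2.map unpk) = true := by
  decide +kernel

end Cfsg.Agent.Lib.Helper4.Blk.M24
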