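import Mathlib
import Cfsg.Agent.Lib.Helper4.Blk.M24Orb3_0
import Cfsg.Agent.Lib.Helper4.Blk.M24Enum
import Cfsg.Agent.Lib.Helper4.Blk.M24Data
import Cfsg.Agent.Lib.Helper4.Blk.OrbCert

set_option autoImplicit false
set_option maxRecDepth 100000

/-! Representatives of the square roots under conjugation with conjugators in `M24`: representative 5, piece 0. -/

namespace Cfsg.Agent.Lib.Helper4.Blk.M24

open Cfsg Cfsg.Agent.Lib.Helper3.Golay Cfsg.Agent.Lib.Helper4.Blk

/-- packed entries: word of the square root, class, word of the conjugator, length of the cycle -/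
def orb5_0 : List ℕ := [
  ]

theorem orb5_0_ok : orbGo CS ZC 17129338494342556402982452004576321 984818244535754528103549039458486304 984818244535754528103549039458486304 984818244535754528103549039458486304 0 0
    (orb5_0.map unpk) = true := by
  decide +kernel

end Cfsg.Agent.Lib.Helper4.Blk.M24
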