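import Mathlib
import Cfsg.Agent.Lib.Helper4.Blk.M24Enum
import Cfsg.Agent.Lib.Helper4.Blk.M24Data2
import Cfsg.Agent.Lib.Helper4.Blk.Prune

set_option autoImplicit false
set_option maxRecDepth 100000

/-! Checks on codes for `M24`: words and codes of the representatives, their powers, the conjugators of the squares. -/

namespace Cfsg.Agent.Lib.Helper4.Blk.M24

open Cfsg Cfsg.Agent.Lib.Helper3.Golay Cfsg.Agent.Lib.Helper4.Blk

theorem code_zw : ∀ k < 26, cwW CS (ZW.getD k 0) = ZC.getD k 0 := by decide +kernel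

theorem code_vw : ∀ k < 26, cwW CS (VW.getD k 0) = VC.getD k 0 ∧ cwW CS (VIW.getD k 0) = VIC.getD k 0 ∧
    cmp (VC.getD k 0) (VIC.getD k 0) = idN ∧ cmp (VC.getD k 0) (RC.getD k 0) = cmp (RC.getD k 0) (VC.getD k 0) ∧
    cmp (VC.getD k 0) (WC.getD k 0) = cmp (WC.getD k 0) (VC.getD k 0) := by decide +kernel

theorem pow_checks : ∀ l < 26, powC (ZC.getD l 0) (NL.getD l 0) = idN ∧
    powC (ZC.getD l 0) (2 * JL.getD l 0 + 1) = RC.getD l 0 ∧
    powC (ZC.getD l 0) (NL.getD l 0 - JL.getD l 0) = WC.getD l 0 ∧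
    (2 * JL.getD l 0 + 1) * 2 ^ AL.getD l 0 = NL.getD l 0 ∧ JL.getD l 0 ≤ NL.getD l 0 := by
  decide +kernel

theorem sq_checks : ∀ k < 26, SQ.getD k 0 < 26 ∧
    cmp (cwW CS (GSQ.getD k 0)) (cmp (ZC.getD k 0) (ZC.getD k 0)) =
      cmp (ZC.getD (SQ.getD k 0) 0) (cwW CS (GSQ.getD k 0)) := by
  decide +kernel

theorem rho_checks : ∀ l < 26, RHO.getD l 0 < 26 ∧
    cmp (cwW CS (GRHO.getD l 0)) (RC.getD l 0) = cmp (ZC.getD (RHO.getD l 0) 0) (cwW CS (GRHO.getD l 0)) := by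
  decide +kernel

theorem nsq_checks : ∀ l < 26, NSQ.getD l 0 * (244823040 / CO.getD (RHO.getD l 0) 0) =
    (((List.range 26).filter fun k => decide (SQ.getD k 0 = RHO.getD l 0)).map
      fun k => 244823040 / CO.getD k 0).sum := by
  decide +kernel

theorem row0_checks : ∀ k < 26, (if cmp (ZC.getD k 0) (ZC.getD k 0) = idN then 244823040 / CO.getD k 0 else 0) % 2 =
    if (ROWS.getD k 0).testBit 0 then 1 else 0 := by
  decide +kernel

theorem hnil : ∀ k < 26, (frobStep ROWS)^[3] (2 ^ k) ≤ 1 := by decide +kernel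

end Cfsg.Agent.Lib.Helper4.Blk.M24
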