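import Mathlib
import Cfsg.Agent.Lib.Helper4.Blk.Cls

set_option autoImplicit false

/-! The number of square roots of an element from the class sizes and the squares of the class representatives. -/

namespace Cfsg.Agent.Lib.Helper4.Blk

universe u

variable {G : Type u} [Group G] [Fintype G]

/-- the square roots of `r` in the class of `a`, times the class of `a * a`, are the class of `a` -/
theorem card_sqrt_in_class (a r : G) (hr : IsConj (a * a) r) :
    Nat.card {y : G // IsConj a y ∧ y * y = r} * Nat.card {x : G // IsConj (a * a) x} =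
      Nat.card {y : G // IsConj a y} := by
  classical
  simp only [Nat.card_eq_fintype_card, Fintype.card_subtype]
  have hmaps : ∀ y ∈ Finset.univ.filter (fun y : G => IsConj a y),
      y * y ∈ Finset.univ.filter (fun x : G => IsConj (a * a) x) := by
    intro y hy
    rw [Finset.mem_filter] at hy ⊢
    obtain ⟨g, hg⟩ := isConj_iff.mp hy.2
    refine ⟨Finset.mem_univ _, isConj_iff.mpr ⟨g, ?_⟩⟩
    rw [← hg]; group
  rw [Finset.card_eq_sum_card_fiberwise hmaps]
  have hfib : ∀ r' ∈ Finset.univ.filter (fun x : G => IsConj (a * a) x),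
      ((Finset.univ.filter (fun y : G => IsConj a y)).filter (fun y => y * y = r')).card =
        (Finset.univ.filter (fun y : G => IsConj a y ∧ y * y = r)).card := by
    intro r' hr'
    rw [Finset.mem_filter] at hr'
    obtain ⟨g, hg⟩ := isConj_iff.mp (hr.symm.trans hr'.2)
    rw [Finset.filter_filter]
    symm
    refine Finset.card_bij (fun y _ => g * y * g⁻¹) ?_ ?_ ?_
    · intro y hy
      rw [Finset.mem_filter] at hy ⊢
      refine ⟨Finset.mem_univ _, hy.2.1.trans (isConj_iff.mpr ⟨g, rfl⟩), ?_⟩
      rw [← hg, ← hy.2.2]; group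
    · intro y _ y' _ h
      simpa using h
    · intro y hy
      rw [Finset.mem_filter] at hy
      refine ⟨g⁻¹ * y * g, ?_, by group⟩
      rw [Finset.mem_filter]
      refine ⟨Finset.mem_univ _, hy.2.1.trans (isConj_iff.mpr ⟨g⁻¹, by group⟩), ?_⟩
      have : r = g⁻¹ * r' * g := by rw [← hg]; group
      rw [this, ← hy.2.2]; group
  rw [Finset.sum_congr rfl hfib, Finset.sum_const, smul_eq_mul, mul_comm]

omit [Fintype G] in
theorem card_sqrt_in_class_eq_zero (a r : G) (hr : ¬ IsConj (a * a) r) :
    Nat.card {y : G // IsConj a y ∧ y * y = r} = 0 := by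
  rw [Nat.card_eq_zero]
  left
  constructor
  rintro ⟨y, hy, hyr⟩
  apply hr
  obtain ⟨g, hg⟩ := isConj_iff.mp hy
  rw [← hyr, ← hg]
  exact isConj_iff.mpr ⟨g, by group⟩

/-- the number of square roots of `r`, times the class size of `r` -/
theorem card_sqrt_mul (c : ℕ) (z : ℕ → G) (hcomp : ∀ g : G, ∃ k < c, IsConj (z k) g)
    (hdisj : ∀ k < c, ∀ l < c, IsConj (z k) (z l) → k = l) (sqc : ℕ → ℕ)
    (hsq : ∀ k < c, sqc k < c ∧ IsConj (z k * z k) (z (sqc k))) (r : G) (ρ : ℕ) (hρ : ρ < c)
    (hr : IsConj r (z ρ)) :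
    Nat.card {y : G // y * y = r} * Nat.card {x : G // IsConj (z ρ) x} =
      ∑ k ∈ (Finset.range c).filter (fun k => sqc k = ρ), Nat.card {x : G // IsConj (z k) x} := by
  classical
  -- split the square roots by class
  have hsplit : Nat.card {y : G // y * y = r} =
      ∑ k ∈ Finset.range c, Nat.card {y : G // IsConj (z k) y ∧ y * y = r} := by
    simp only [Nat.card_eq_fintype_card, Fintype.card_subtype]
    have : (Finset.univ.filter fun y : G => y * y = r) =
        (Finset.range c).biUnion fun k => Finset.univ.filter fun y : G => IsConj (z k) y ∧ y * y = r := by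
      ext y
      simp only [Finset.mem_filter, Finset.mem_univ, true_and, Finset.mem_biUnion, Finset.mem_range]
      constructor
      · intro hy
        obtain ⟨k, hk, hc⟩ := hcomp y
        exact ⟨k, hk, hc, hy⟩
      · rintro ⟨k, -, -, hy⟩
        exact hy
    rw [this, Finset.card_biUnion]
    intro k hk l hl hkl
    rw [Finset.mem_coe, Finset.mem_range] at hk hl
    rw [Function.onFun, Finset.disjoint_filter]
    intro x _ h1 h2
    exact hkl (hdisj k hk l hl (h1.1.trans h2.1.symm))
  rw [hsplit, Finset.sum_mul, Finset.sum_filter]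
  apply Finset.sum_congr rfl
  intro k hk
  rw [Finset.mem_range] at hk
  obtain ⟨h1, h2⟩ := hsq k hk
  by_cases hkρ : sqc k = ρ
  · rw [if_pos hkρ]
    have hcr : IsConj (z k * z k) r := by rw [hkρ] at h2; exact h2.trans hr.symm
    rw [← card_sqrt_in_class (z k) r hcr]
    congr 1
    -- the classes of `z ρ` and of `z k * z k` coincide
    apply Nat.card_congr
    refine Equiv.subtypeEquivRight fun x => ?_
    rw [hkρ] at h2
    exact ⟨fun h => h2.trans h, fun h => h2.symm.trans h⟩
  · rw [if_neg hkρ, card_sqrt_in_class_eq_zero, zero_mul]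
    intro hcr
    apply hkρ
    exact hdisj _ h1 _ hρ ((h2.symm.trans hcr).trans hr)

omit [Fintype G] in
open Classical in
/-- the involutions and the identity in the class of `a` -/
theorem card_sq_one_in_class (a w : G) (hw : w = 1) :
    Nat.card {y : G // y * y = 1 ∧ IsConj a (y * w)} = if a * a = 1 then Nat.card {y : G // IsConj a y} else 0 := by
  subst hw
  by_cases ha : a * a = 1
  · rw [if_pos ha]
    apply Nat.card_congr
    refine Equiv.subtypeEquivRight fun y => ?_
    rw [mul_one]
    constructor
    · exact fun h => h.2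
    · intro h
      refine ⟨?_, h⟩
      obtain ⟨g, hg⟩ := isConj_iff.mp h
      rw [← hg]
      calc g * a * g⁻¹ * (g * a * g⁻¹) = g * (a * a) * g⁻¹ := by group
        _ = 1 := by rw [ha]; group
  · rw [if_neg ha, Nat.card_eq_zero]
    left
    constructor
    rintro ⟨y, hy, hc⟩
    rw [mul_one] at hc
    apply ha
    obtain ⟨g, hg⟩ := isConj_iff.mp hc
    have : a = g⁻¹ * y * g := by rw [← hg]; group
    rw [this]
    calc g⁻¹ * y * g * (g⁻¹ * y * g) = g⁻¹ * (y * y) * g := by group
      _ = 1 := by rw [hy]; group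

/-- the number of square roots of `r` from the centralizer orders -/
theorem card_sqrt_of_orders (c : ℕ) (z : ℕ → G) (hcomp : ∀ g : G, ∃ k < c, IsConj (z k) g)
    (hdisj : ∀ k < c, ∀ l < c, IsConj (z k) (z l) → k = l) (cs : List ℕ)
    (hcent : ∀ k < c, Nat.card (Subgroup.centralizer ({z k} : Set G)) = cs.getD k 0) (sqc : ℕ → ℕ)
    (hsq : ∀ k < c, sqc k < c ∧ IsConj (z k * z k) (z (sqc k))) (r : G) (ρ : ℕ) (hρ : ρ < c)
    (hr : IsConj r (z ρ)) :
    Nat.card {y : G // y * y = r} * (Fintype.card G / cs.getD ρ 0) =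
      (((List.range c).filter fun k => decide (sqc k = ρ)).map fun k => Fintype.card G / cs.getD k 0).sum := by
  classical
  rw [← card_class_eq (z ρ) _ (hcent ρ hρ), card_sqrt_mul c z hcomp hdisj sqc hsq r ρ hρ hr]
  have h1 : (Finset.range c).filter (fun k => sqc k = ρ) =
      ((List.range c).filter fun k => decide (sqc k = ρ)).toFinset := by
    ext k
    simp
  rw [h1, List.sum_toFinset _ (List.nodup_range.filter _)]
  congr 1
  apply List.map_congr_left
  intro k hk
  rw [List.mem_filter, List.mem_range] at hk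
  exact card_class_eq (z k) _ (hcent k hk.1)

end Cfsg.Agent.Lib.Helper4.Blk
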