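import Mathlib
import Cfsg.Agent.Lib.Helper3.Golay.M24Order
import Cfsg.Agent.Lib.Helper4.Blk.M24CentA
import Cfsg.Agent.Lib.Helper4.Blk.M24CentB
import Cfsg.Agent.Lib.Helper4.Blk.M24CentC
import Cfsg.Agent.Lib.Helper4.Blk.M24CentD
import Cfsg.Agent.Lib.Helper4.Blk.M24Pow
import Cfsg.Agent.Lib.Helper4.Blk.M24Orb1_0
import Cfsg.Agent.Lib.Helper4.Blk.M24Orb2_0
import Cfsg.Agent.Lib.Helper4.Blk.M24Orb3_0
import Cfsg.Agent.Lib.Helper4.Blk.M24Orb3_1
import Cfsg.Agent.Lib.Helper4.Blk.M24Orb3_2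
import Cfsg.Agent.Lib.Helper4.Blk.M24Orb4_0
import Cfsg.Agent.Lib.Helper4.Blk.M24Orb4_1
import Cfsg.Agent.Lib.Helper4.Blk.M24Orb4_2
import Cfsg.Agent.Lib.Helper4.Blk.M24Orb5_0
import Cfsg.Agent.Lib.Helper4.Blk.M24Orb6_0
import Cfsg.Agent.Lib.Helper4.Blk.M24Orb7_0
import Cfsg.Agent.Lib.Helper4.Blk.M24Orb8_0
import Cfsg.Agent.Lib.Helper4.Blk.M24Orb8_1
import Cfsg.Agent.Lib.Helper4.Blk.M24Orb8_2
import Cfsg.Agent.Lib.Helper4.Blk.M24Orb9_0
import Cfsg.Agent.Lib.Helper4.Blk.M24Orb10_0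
import Cfsg.Agent.Lib.Helper4.Blk.M24Orb11_0
import Cfsg.Agent.Lib.Helper4.Blk.M24Orb11_1
import Cfsg.Agent.Lib.Helper4.Blk.M24Orb11_2
import Cfsg.Agent.Lib.Helper4.Blk.M24Orb12_0
import Cfsg.Agent.Lib.Helper4.Blk.M24Orb12_1
import Cfsg.Agent.Lib.Helper4.Blk.M24Orb12_2
import Cfsg.Agent.Lib.Helper4.Blk.M24Orb13_0
import Cfsg.Agent.Lib.Helper4.Blk.M24Orb14_0
import Cfsg.Agent.Lib.Helper4.Blk.M24Orb15_0
import Cfsg.Agent.Lib.Helper4.Blk.M24Orb15_1
import Cfsg.Agent.Lib.Helper4.Blk.M24Orb15_2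
import Cfsg.Agent.Lib.Helper4.Blk.M24Orb15_3
import Cfsg.Agent.Lib.Helper4.Blk.M24Orb16_0
import Cfsg.Agent.Lib.Helper4.Blk.M24Orb17_0
import Cfsg.Agent.Lib.Helper4.Blk.M24Orb18_0
import Cfsg.Agent.Lib.Helper4.Blk.M24Orb19_0
import Cfsg.Agent.Lib.Helper4.Blk.M24Orb20_0
import Cfsg.Agent.Lib.Helper4.Blk.M24Orb20_1
import Cfsg.Agent.Lib.Helper4.Blk.M24Orb20_2
import Cfsg.Agent.Lib.Helper4.Blk.M24Orb21_0
import Cfsg.Agent.Lib.Helper4.Blk.M24Orb21_1
import Cfsg.Agent.Lib.Helper4.Blk.M24Orb21_2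
import Cfsg.Agent.Lib.Helper4.Blk.M24Orb22_0
import Cfsg.Agent.Lib.Helper4.Blk.M24Orb22_1
import Cfsg.Agent.Lib.Helper4.Blk.M24Orb22_2
import Cfsg.Agent.Lib.Helper4.Blk.M24Orb23_0
import Cfsg.Agent.Lib.Helper4.Blk.M24Orb23_1
import Cfsg.Agent.Lib.Helper4.Blk.M24Orb23_2
import Cfsg.Agent.Lib.Helper4.Blk.M24Orb24_0
import Cfsg.Agent.Lib.Helper4.Blk.M24Orb24_1
import Cfsg.Agent.Lib.Helper4.Blk.M24Orb25_0
import Cfsg.Agent.Lib.Helper4.Blk.M24Orb25_1
import Cfsg.Agent.Lib.Helper4.Blk.Count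
import Cfsg.Agent.Lib.Helper4.Blk.PhiTrick
import Cfsg.Agent.Lib.Helper4.Blk.Sqrt
import Cfsg.Agent.Lib.Helper4.Blk.OrbCert

set_option autoImplicit false
set_option maxRecDepth 100000

/-! All irreducible characters of `M24` lie in one 2-block. -/

namespace Cfsg.Agent.Lib.Helper4.Blk.M24

open Cfsg Cfsg.Agent.Lib.Helper3.Golay Cfsg.Agent.Lib.Helper4.Blk

noncomputable local instance instFintypeM24 : Fintype ↥Cfsg.M24 := Fintype.ofFinite _

/-- the class representatives -/
noncomputable def z (k : ℕ) : ↥Cfsg.M24 := ⟨eltW LS (ZW.getD k 0), eltW_mem24 _⟩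

theorem code_z (k : ℕ) (hk : k < ZC.length) : codeOf (z k).1 = ZC.getD k 0 := by
  show codeOf (eltW LS (ZW.getD k 0)) = _
  rw [codeOf_eltW chain_LS, codes_LS]
  exact code_zw k hk

theorem z_zero : z 0 = 1 := by
  apply Subtype.ext
  apply codeOf_injective
  rw [code_z 0 (by decide), Subgroup.coe_one, codeOf_one]
  decide +kernel

theorem card24 : Fintype.card ↥Cfsg.M24 = 244823040 := by
  rw [← Nat.card_eq_fintype_card, Cfsg.Agent.Lib.Helper3.Golay.card_M24]

theorem cnt1 : ((prodList LS).countP fun g => cjB (codeOf g) (ZC.getD 1 0) (ZC.getD 1 0)) = CO.getD 1 0 :=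
  cent_of_sweep chain_LS (z 1).1 (z 1).1 _ _ (code_z 1 (by decide)) (code_z 1 (by decide)) cs1 consOK1 _
    (by rw [codes_LS]; exact cent1)

theorem cnt2 : ((prodList LS).countP fun g => cjB (codeOf g) (ZC.getD 2 0) (ZC.getD 2 0)) = CO.getD 2 0 :=
  cent_of_sweep chain_LS (z 2).1 (z 2).1 _ _ (code_z 2 (by decide)) (code_z 2 (by decide)) cs2 consOK2 _
    (by rw [codes_LS]; exact cent2)

theorem cnt3 : ((prodList LS).countP fun g => cjB (codeOf g) (ZC.getD 3 0) (ZC.getD 3 0)) = CO.getD 3 0 :=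
  cent_of_sweep chain_LS (z 3).1 (z 3).1 _ _ (code_z 3 (by decide)) (code_z 3 (by decide)) cs3 consOK3 _
    (by rw [codes_LS]; exact cent3)

theorem cnt4 : ((prodList LS).countP fun g => cjB (codeOf g) (ZC.getD 4 0) (ZC.getD 4 0)) = CO.getD 4 0 :=
  cent_of_sweep chain_LS (z 4).1 (z 4).1 _ _ (code_z 4 (by decide)) (code_z 4 (by decide)) cs4 consOK4 _
    (by rw [codes_LS]; exact cent4)

theorem cnt5 : ((prodList LS).countP fun g => cjB (codeOf g) (ZC.getD 5 0) (ZC.getD 5 0)) = CO.getD 5 0 :=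
  cent_of_sweep chain_LS (z 5).1 (z 5).1 _ _ (code_z 5 (by decide)) (code_z 5 (by decide)) cs5 consOK5 _
    (by rw [codes_LS]; exact cent5)

theorem cnt6 : ((prodList LS).countP fun g => cjB (codeOf g) (ZC.getD 6 0) (ZC.getD 6 0)) = CO.getD 6 0 :=
  cent_of_sweep chain_LS (z 6).1 (z 6).1 _ _ (code_z 6 (by decide)) (code_z 6 (by decide)) cs6 consOK6 _
    (by rw [codes_LS]; exact cent6)

theorem cnt7 : ((prodList LS).countP fun g => cjB (codeOf g) (ZC.getD 7 0) (ZC.getD 7 0)) = CO.getD 7 0 :=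
  cent_of_sweep chain_LS (z 7).1 (z 7).1 _ _ (code_z 7 (by decide)) (code_z 7 (by decide)) cs7 consOK7 _
    (by rw [codes_LS]; exact cent7)

theorem cnt8 : ((prodList LS).countP fun g => cjB (codeOf g) (ZC.getD 8 0) (ZC.getD 8 0)) = CO.getD 8 0 :=
  cent_of_sweep chain_LS (z 8).1 (z 8).1 _ _ (code_z 8 (by decide)) (code_z 8 (by decide)) cs8 consOK8 _
    (by rw [codes_LS]; exact cent8)

theorem cnt9 : ((prodList LS).countP fun g => cjB (codeOf g) (ZC.getD 9 0) (ZC.getD 9 0)) = CO.getD 9 0 :=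
  cent_of_sweep chain_LS (z 9).1 (z 9).1 _ _ (code_z 9 (by decide)) (code_z 9 (by decide)) cs9 consOK9 _
    (by rw [codes_LS]; exact cent9)

theorem cnt10 : ((prodList LS).countP fun g => cjB (codeOf g) (ZC.getD 10 0) (ZC.getD 10 0)) = CO.getD 10 0 :=
  cent_of_sweep chain_LS (z 10).1 (z 10).1 _ _ (code_z 10 (by decide)) (code_z 10 (by decide)) cs10 consOK10 _
    (by rw [codes_LS]; exact cent10)

theorem cnt11 : ((prodList LS).countP fun g => cjB (codeOf g) (ZC.getD 11 0) (ZC.getD 11 0)) = CO.getD 11 0 :=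
  cent_of_sweep chain_LS (z 11).1 (z 11).1 _ _ (code_z 11 (by decide)) (code_z 11 (by decide)) cs11 consOK11 _
    (by rw [codes_LS]; exact cent11)

theorem cnt12 : ((prodList LS).countP fun g => cjB (codeOf g) (ZC.getD 12 0) (ZC.getD 12 0)) = CO.getD 12 0 :=
  cent_of_sweep chain_LS (z 12).1 (z 12).1 _ _ (code_z 12 (by decide)) (code_z 12 (by decide)) cs12 consOK12 _
    (by rw [codes_LS]; exact cent12)

theorem cnt13 : ((prodList LS).countP fun g => cjB (codeOf g) (ZC.getD 13 0) (ZC.getD 13 0)) = CO.getD 13 0 :=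
  cent_of_sweep chain_LS (z 13).1 (z 13).1 _ _ (code_z 13 (by decide)) (code_z 13 (by decide)) cs13 consOK13 _
    (by rw [codes_LS]; exact cent13)

theorem cnt14 : ((prodList LS).countP fun g => cjB (codeOf g) (ZC.getD 14 0) (ZC.getD 14 0)) = CO.getD 14 0 :=
  cent_of_sweep chain_LS (z 14).1 (z 14).1 _ _ (code_z 14 (by decide)) (code_z 14 (by decide)) cs14 consOK14 _
    (by rw [codes_LS]; exact cent14)

theorem cnt15 : ((prodList LS).countP fun g => cjB (codeOf g) (ZC.getD 15 0) (ZC.getD 15 0)) = CO.getD 15 0 :=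
  cent_of_sweep chain_LS (z 15).1 (z 15).1 _ _ (code_z 15 (by decide)) (code_z 15 (by decide)) cs15 consOK15 _
    (by rw [codes_LS]; exact cent15)

theorem cnt16 : ((prodList LS).countP fun g => cjB (codeOf g) (ZC.getD 16 0) (ZC.getD 16 0)) = CO.getD 16 0 :=
  cent_of_sweep chain_LS (z 16).1 (z 16).1 _ _ (code_z 16 (by decide)) (code_z 16 (by decide)) cs16 consOK16 _
    (by rw [codes_LS]; exact cent16)

theorem cnt17 : ((prodList LS).countP fun g => cjB (codeOf g) (ZC.getD 17 0) (ZC.getD 17 0)) = CO.getD 17 0 :=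
  cent_of_sweep chain_LS (z 17).1 (z 17).1 _ _ (code_z 17 (by decide)) (code_z 17 (by decide)) cs17 consOK17 _
    (by rw [codes_LS]; exact cent17)

theorem cnt18 : ((prodList LS).countP fun g => cjB (codeOf g) (ZC.getD 18 0) (ZC.getD 18 0)) = CO.getD 18 0 :=
  cent_of_sweep chain_LS (z 18).1 (z 18).1 _ _ (code_z 18 (by decide)) (code_z 18 (by decide)) cs18 consOK18 _
    (by rw [codes_LS]; exact cent18)

theorem cnt19 : ((prodList LS).countP fun g => cjB (codeOf g) (ZC.getD 19 0) (ZC.getD 19 0)) = CO.getD 19 0 :=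
  cent_of_sweep chain_LS (z 19).1 (z 19).1 _ _ (code_z 19 (by decide)) (code_z 19 (by decide)) cs19 consOK19 _
    (by rw [codes_LS]; exact cent19)

theorem cnt20 : ((prodList LS).countP fun g => cjB (codeOf g) (ZC.getD 20 0) (ZC.getD 20 0)) = CO.getD 20 0 :=
  cent_of_sweep chain_LS (z 20).1 (z 20).1 _ _ (code_z 20 (by decide)) (code_z 20 (by decide)) cs20 consOK20 _
    (by rw [codes_LS]; exact cent20)

theorem cnt21 : ((prodList LS).countP fun g => cjB (codeOf g) (ZC.getD 21 0) (ZC.getD 21 0)) = CO.getD 21 0 :=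
  cent_of_sweep chain_LS (z 21).1 (z 21).1 _ _ (code_z 21 (by decide)) (code_z 21 (by decide)) cs21 consOK21 _
    (by rw [codes_LS]; exact cent21)

theorem cnt22 : ((prodList LS).countP fun g => cjB (codeOf g) (ZC.getD 22 0) (ZC.getD 22 0)) = CO.getD 22 0 :=
  cent_of_sweep chain_LS (z 22).1 (z 22).1 _ _ (code_z 22 (by decide)) (code_z 22 (by decide)) cs22 consOK22 _
    (by rw [codes_LS]; exact cent22)

theorem cnt23 : ((prodList LS).countP fun g => cjB (codeOf g) (ZC.getD 23 0) (ZC.getD 23 0)) = CO.getD 23 0 :=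
  cent_of_sweep chain_LS (z 23).1 (z 23).1 _ _ (code_z 23 (by decide)) (code_z 23 (by decide)) cs23 consOK23 _
    (by rw [codes_LS]; exact cent23)

theorem cnt24 : ((prodList LS).countP fun g => cjB (codeOf g) (ZC.getD 24 0) (ZC.getD 24 0)) = CO.getD 24 0 :=
  cent_of_sweep chain_LS (z 24).1 (z 24).1 _ _ (code_z 24 (by decide)) (code_z 24 (by decide)) cs24 consOK24 _
    (by rw [codes_LS]; exact cent24)

theorem cnt25 : ((prodList LS).countP fun g => cjB (codeOf g) (ZC.getD 25 0) (ZC.getD 25 0)) = CO.getD 25 0 :=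
  cent_of_sweep chain_LS (z 25).1 (z 25).1 _ _ (code_z 25 (by decide)) (code_z 25 (by decide)) cs25 consOK25 _
    (by rw [codes_LS]; exact cent25)

theorem npair9_10 : ¬ IsConj (z 9) (z 10) :=
  not_isConj_of_count enum24 (z 9) (z 10) _ _ (code_z 9 (by decide)) (code_z 10 (by decide))
    (cent_of_sweep chain_LS (z 9).1 (z 10).1 _ _ (code_z 9 (by decide)) (code_z 10 (by decide)) cs9 consOK9 0
      (by rw [codes_LS]; exact pair9_10))

theorem npair11_12 : ¬ IsConj (z 11) (z 12) :=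
  not_isConj_of_count enum24 (z 11) (z 12) _ _ (code_z 11 (by decide)) (code_z 12 (by decide))
    (cent_of_sweep chain_LS (z 11).1 (z 12).1 _ _ (code_z 11 (by decide)) (code_z 12 (by decide)) cs11 consOK11 0
      (by rw [codes_LS]; exact pair11_12))

theorem npair16_17 : ¬ IsConj (z 16) (z 17) :=
  not_isConj_of_count enum24 (z 16) (z 17) _ _ (code_z 16 (by decide)) (code_z 17 (by decide))
    (cent_of_sweep chain_LS (z 16).1 (z 17).1 _ _ (code_z 16 (by decide)) (code_z 17 (by decide)) cs16 consOK16 0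
      (by rw [codes_LS]; exact pair16_17))

theorem npair18_19 : ¬ IsConj (z 18) (z 19) :=
  not_isConj_of_count enum24 (z 18) (z 19) _ _ (code_z 18 (by decide)) (code_z 19 (by decide))
    (cent_of_sweep chain_LS (z 18).1 (z 19).1 _ _ (code_z 18 (by decide)) (code_z 19 (by decide)) cs18 consOK18 0
      (by rw [codes_LS]; exact pair18_19))

theorem npair20_21 : ¬ IsConj (z 20) (z 21) :=
  not_isConj_of_count enum24 (z 20) (z 21) _ _ (code_z 20 (by decide)) (code_z 21 (by decide))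
    (cent_of_sweep chain_LS (z 20).1 (z 21).1 _ _ (code_z 20 (by decide)) (code_z 21 (by decide)) cs20 consOK20 0
      (by rw [codes_LS]; exact pair20_21))

theorem npair22_23 : ¬ IsConj (z 22) (z 23) :=
  not_isConj_of_count enum24 (z 22) (z 23) _ _ (code_z 22 (by decide)) (code_z 23 (by decide))
    (cent_of_sweep chain_LS (z 22).1 (z 23).1 _ _ (code_z 22 (by decide)) (code_z 23 (by decide)) cs22 consOK22 0
      (by rw [codes_LS]; exact pair22_23))

theorem npair24_25 : ¬ IsConj (z 24) (z 25) :=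
  not_isConj_of_count enum24 (z 24) (z 25) _ _ (code_z 24 (by decide)) (code_z 25 (by decide))
    (cent_of_sweep chain_LS (z 24).1 (z 25).1 _ _ (code_z 24 (by decide)) (code_z 25 (by decide)) cs24 consOK24 0
      (by rw [codes_LS]; exact pair24_25))

theorem hcent : ∀ k < 26, Nat.card (Subgroup.centralizer ({z k} : Set ↥Cfsg.M24)) = CO.getD k 0 := by
  intro k hk
  interval_cases k
  · rw [z_zero]
    have : Subgroup.centralizer ({(1 : ↥Cfsg.M24)} : Set ↥Cfsg.M24) = ⊤ := by
      rw [Subgroup.centralizer_eq_top_iff_subset]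
      intro x hx
      rw [Set.mem_singleton_iff] at hx
      rw [hx]
      exact Subgroup.one_mem _
    rw [this, Subgroup.card_top, Cfsg.Agent.Lib.Helper3.Golay.card_M24]
    rfl

  · exact card_centralizer_of_count enum24 (z 1) _ _ (code_z 1 (by decide)) cnt1
  · exact card_centralizer_of_count enum24 (z 2) _ _ (code_z 2 (by decide)) cnt2
  · exact card_centralizer_of_count enum24 (z 3) _ _ (code_z 3 (by decide)) cnt3
  · exact card_centralizer_of_count enum24 (z 4) _ _ (code_z 4 (by decide)) cnt4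
  · exact card_centralizer_of_count enum24 (z 5) _ _ (code_z 5 (by decide)) cnt5
  · exact card_centralizer_of_count enum24 (z 6) _ _ (code_z 6 (by decide)) cnt6
  · exact card_centralizer_of_count enum24 (z 7) _ _ (code_z 7 (by decide)) cnt7
  · exact card_centralizer_of_count enum24 (z 8) _ _ (code_z 8 (by decide)) cnt8
  · exact card_centralizer_of_count enum24 (z 9) _ _ (code_z 9 (by decide)) cnt9
  · exact card_centralizer_of_count enum24 (z 10) _ _ (code_z 10 (by decide)) cnt10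
  · exact card_centralizer_of_count enum24 (z 11) _ _ (code_z 11 (by decide)) cnt11
  · exact card_centralizer_of_count enum24 (z 12) _ _ (code_z 12 (by decide)) cnt12
  · exact card_centralizer_of_count enum24 (z 13) _ _ (code_z 13 (by decide)) cnt13
  · exact card_centralizer_of_count enum24 (z 14) _ _ (code_z 14 (by decide)) cnt14
  · exact card_centralizer_of_count enum24 (z 15) _ _ (code_z 15 (by decide)) cnt15
  · exact card_centralizer_of_count enum24 (z 16) _ _ (code_z 16 (by decide)) cnt16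
  · exact card_centralizer_of_count enum24 (z 17) _ _ (code_z 17 (by decide)) cnt17
  · exact card_centralizer_of_count enum24 (z 18) _ _ (code_z 18 (by decide)) cnt18
  · exact card_centralizer_of_count enum24 (z 19) _ _ (code_z 19 (by decide)) cnt19
  · exact card_centralizer_of_count enum24 (z 20) _ _ (code_z 20 (by decide)) cnt20
  · exact card_centralizer_of_count enum24 (z 21) _ _ (code_z 21 (by decide)) cnt21
  · exact card_centralizer_of_count enum24 (z 22) _ _ (code_z 22 (by decide)) cnt22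
  · exact card_centralizer_of_count enum24 (z 23) _ _ (code_z 23 (by decide)) cnt23
  · exact card_centralizer_of_count enum24 (z 24) _ _ (code_z 24 (by decide)) cnt24
  · exact card_centralizer_of_count enum24 (z 25) _ _ (code_z 25 (by decide)) cnt25

set_option synthInstance.maxSize 4000 in
theorem co_pairs : ∀ k < 26, ∀ l < 26, CO.getD k 0 = CO.getD l 0 → k ≠ l →
    (k = 9 ∧ l = 10) ∨ (k = 10 ∧ l = 9) ∨ (k = 11 ∧ l = 12) ∨ (k = 12 ∧ l = 11) ∨ (k = 16 ∧ l = 17) ∨ (k = 17 ∧ l = 16) ∨ (k = 18 ∧ l = 19) ∨ (k = 19 ∧ l = 18) ∨ (k = 20 ∧ l = 21) ∨ (k = 21 ∧ l = 20) ∨ (k = 22 ∧ l = 23) ∨ (k = 23 ∧ l = 22) ∨ (k = 24 ∧ l = 25) ∨ (k = 25 ∧ l = 24) := by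
  decide

theorem hdisj : ∀ k < ZC.length, ∀ l < ZC.length, IsConj (z k) (z l) → k = l := by
  intro k hk l hl h
  have hk' : k < 26 := hk
  have hl' : l < 26 := hl
  have h1 := card_centralizer_congr h
  rw [hcent k hk', hcent l hl'] at h1
  by_contra hne
  rcases co_pairs k hk' l hl' h1 hne with ⟨rfl, rfl⟩ | ⟨rfl, rfl⟩ | ⟨rfl, rfl⟩ | ⟨rfl, rfl⟩ | ⟨rfl, rfl⟩ | ⟨rfl, rfl⟩ | ⟨rfl, rfl⟩ | ⟨rfl, rfl⟩ | ⟨rfl, rfl⟩ | ⟨rfl, rfl⟩ | ⟨rfl, rfl⟩ | ⟨rfl, rfl⟩ | ⟨rfl, rfl⟩ | ⟨rfl, rfl⟩
  · exact npair9_10 h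
  · exact npair9_10 h.symm
  · exact npair11_12 h
  · exact npair11_12 h.symm
  · exact npair16_17 h
  · exact npair16_17 h.symm
  · exact npair18_19 h
  · exact npair18_19 h.symm
  · exact npair20_21 h
  · exact npair20_21 h.symm
  · exact npair22_23 h
  · exact npair22_23 h.symm
  · exact npair24_25 h
  · exact npair24_25 h.symm

theorem hcomp : ∀ g : ↥Cfsg.M24, ∃ k < 26, IsConj (z k) g := by
  refine classes_complete 26 z CO hcent hdisj ?_
  rw [card24]
  decide +kernel

/-- the element with a given word -/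
noncomputable def ew (w : ℕ) : ↥Cfsg.M24 := ⟨eltW LS w, eltW_mem24 _⟩

theorem code_ew (w : ℕ) : codeOf (ew w).1 = cwW CS w := by
  show codeOf (eltW LS w) = _
  rw [codeOf_eltW chain_LS, codes_LS]

theorem hsq : ∀ k < 26, SQ.getD k 0 < 26 ∧ IsConj (z k * z k) (z (SQ.getD k 0)) := by
  intro k hk
  obtain ⟨h1, h2⟩ := sq_checks k hk
  refine ⟨h1, isConj_of_code _ _ (ew (GSQ.getD k 0)) ?_⟩
  rw [code_ew, Subgroup.coe_mul, codeOf_mul, code_z k hk, code_z _ h1]
  exact h2

/-- the odd part power of the representative -/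
noncomputable def rr (l : ℕ) : ↥Cfsg.M24 := z l ^ (2 * JL.getD l 0 + 1)

/-- the inverse of the power `j` of the representative -/
noncomputable def ww (l : ℕ) : ↥Cfsg.M24 := (z l ^ JL.getD l 0)⁻¹

theorem code_rr (l : ℕ) (hl : l < 26) : codeOf (rr l).1 = RC.getD l 0 := by
  unfold rr
  rw [code_pow (z l) _ _ (code_z l hl), (pow_checks l hl).2.1]

theorem code_ww (l : ℕ) (hl : l < 26) : codeOf (ww l).1 = WC.getD l 0 := by
  unfold ww
  rw [code_pow_inv (z l) _ (NL.getD l 0) _ (code_z l hl) (pow_checks l hl).2.2.2.2 (pow_checks l hl).1,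
    (pow_checks l hl).2.2.1]

theorem hrho : ∀ l < 26, RHO.getD l 0 < 26 ∧ IsConj (rr l) (z (RHO.getD l 0)) := by
  intro l hl
  obtain ⟨h1, h2⟩ := rho_checks l hl
  refine ⟨h1, isConj_of_code _ _ (ew (GRHO.getD l 0)) ?_⟩
  rw [code_ew, code_rr l hl, code_z _ h1]
  exact h2

theorem pos_checks : ∀ l < 26, 0 < 244823040 / CO.getD (RHO.getD l 0) 0 := by decide +kernel

theorem hN (l : ℕ) (hl : l < 26) : Nat.card {y : ↥Cfsg.M24 // y * y = rr l} = NSQ.getD l 0 := by
  have h := card_sqrt_of_orders 26 z hcomp hdisj CO hcent (fun k => SQ.getD k 0) hsq (rr l) (RHO.getD l 0)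
    (hrho l hl).1 (hrho l hl).2
  rw [card24] at h
  have h2 := nsq_checks l hl
  exact Nat.eq_of_mul_eq_mul_right (pos_checks l hl) (h.trans h2.symm)

/-- the elements commuting with the representatives -/
noncomputable def vv (l : ℕ) : ↥Cfsg.M24 := ew (VW.getD l 0)

theorem code_vv (l : ℕ) (hl : l < 26) : codeOf (vv l).1 = VC.getD l 0 := by
  unfold vv
  rw [code_ew]
  exact (code_vw l hl).1

theorem code_vvi (l : ℕ) (hl : l < 26) : codeOf ((vv l)⁻¹).1 = VIC.getD l 0 := by
  have h : (vv l)⁻¹ = ew (VIW.getD l 0) := by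
    apply inv_of_code
    rw [code_vv l hl, code_ew, (code_vw l hl).2.1]
    exact (code_vw l hl).2.2.1
  rw [h, code_ew]
  exact (code_vw l hl).2.1

theorem hvr (l : ℕ) (hl : l < 26) : vv l * rr l = rr l * vv l := by
  apply commute_of_code
  rw [code_vv l hl, code_rr l hl]
  exact (code_vw l hl).2.2.2.1

theorem hvw (l : ℕ) (hl : l < 26) : vv l * ww l = ww l * vv l := by
  apply commute_of_code
  rw [code_vv l hl, code_ww l hl]
  exact (code_vw l hl).2.2.2.2

theorem pc_mod (k l : ℕ) (hl : l < 26) :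
    pairCount (z k) (z l) ≡ Nat.card {y : ↥Cfsg.M24 // y * y = rr l ∧ IsConj (z k) (y * ww l)} [MOD 2] := by
  classical
  have hz : z l ^ ((2 * JL.getD l 0 + 1) * 2 ^ AL.getD l 0) = 1 := by
    rw [(pow_checks l hl).2.2.2.1]
    exact pow_eq_one_of_code (z l) _ _ (code_z l hl) (pow_checks l hl).1
  have := card_pairs_modEq (fun x : ↥Cfsg.M24 => IsConj (z k) x)
    (fun h x => by
      constructor
      · intro hx
        exact hx.trans (isConj_iff.mpr ⟨h⁻¹, by group⟩)
      · intro hx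
        exact hx.trans (isConj_iff.mpr ⟨h, rfl⟩))
    (z l) (JL.getD l 0) (AL.getD l 0) hz
  unfold pairCount
  rw [Nat.card_eq_fintype_card, Fintype.card_subtype, Nat.card_eq_fintype_card, Fintype.card_subtype]
  exact this

/-- the entries for the representative 1 -/
def certs1 : List (ℕ × ℕ × ℕ × ℕ) := orb1_0.map unpk

theorem go1 : orbGo CS ZC (RC.getD 1 0) (WC.getD 1 0) (VC.getD 1 0) (VIC.getD 1 0) 0 900882608967755613634217541236103783 certs1 = true := by
  exact orb1_0_ok

theorem tsum1 : (certs1.map fun t => t.2.2.2).sum = NSQ.getD 1 0 := by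
  decide +kernel

theorem par1 : ∀ k < 26, clsSum certs1 k % 2 = if (ROWS.getD k 0).testBit 1 then 1 else 0 := by
  decide +kernel

theorem orb1 (k : ℕ) (hk : k < 26) :
    Nat.card {y : ↥Cfsg.M24 // y * y = rr 1 ∧ IsConj (z k) (y * ww 1)} = clsSum certs1 k :=
  card_sqrt_class_of_orbs chain_LS eltW_mem24 ZC z code_z hdisj (rr 1) (ww 1) (vv 1) (hvr 1 (by decide))
    (hvw 1 (by decide)) _ _ _ _ (code_rr 1 (by decide)) (code_ww 1 (by decide)) (code_vv 1 (by decide))
    (code_vvi 1 (by decide)) certs1 (by rw [codes_LS]; exact (orbGo_spec go1).1)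
    (by rw [codes_LS]; exact (orbGo_spec go1).2.1) (by rw [hN 1 (by decide), tsum1]) k hk

/-- the entries for the representative 2 -/
def certs2 : List (ℕ × ℕ × ℕ × ℕ) := orb2_0.map unpk

theorem go2 : orbGo CS ZC (RC.getD 2 0) (WC.getD 2 0) (VC.getD 2 0) (VIC.getD 2 0) 0 914642222499066791204097987060051378 certs2 = true := by
  exact orb2_0_ok

theorem tsum2 : (certs2.map fun t => t.2.2.2).sum = NSQ.getD 2 0 := by
  decide +kernel

theorem par2 : ∀ k < 26, clsSum certs2 k % 2 = if (ROWS.getD k 0).testBit 2 then 1 else 0 := by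
  decide +kernel

theorem orb2 (k : ℕ) (hk : k < 26) :
    Nat.card {y : ↥Cfsg.M24 // y * y = rr 2 ∧ IsConj (z k) (y * ww 2)} = clsSum certs2 k :=
  card_sqrt_class_of_orbs chain_LS eltW_mem24 ZC z code_z hdisj (rr 2) (ww 2) (vv 2) (hvr 2 (by decide))
    (hvw 2 (by decide)) _ _ _ _ (code_rr 2 (by decide)) (code_ww 2 (by decide)) (code_vv 2 (by decide))
    (code_vvi 2 (by decide)) certs2 (by rw [codes_LS]; exact (orbGo_spec go2).1)
    (by rw [codes_LS]; exact (orbGo_spec go2).2.1) (by rw [hN 2 (by decide), tsum2]) k hk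

/-- the entries for the representative 3 -/
def certs3 : List (ℕ × ℕ × ℕ × ℕ) := orb3_0.map unpk ++ (orb3_1.map unpk ++ (orb3_2.map unpk))

theorem go3 : orbGo CS ZC (RC.getD 3 0) (WC.getD 3 0) (VC.getD 3 0) (VIC.getD 3 0) 0 984818244535754528103549039458486304 certs3 = true := by
  exact (orbGo_append orb3_0_ok (orbGo_append orb3_1_ok orb3_2_ok))

theorem tsum3 : (certs3.map fun t => t.2.2.2).sum = NSQ.getD 3 0 := by
  decide +kernel

theorem par3 : ∀ k < 26, clsSum certs3 k % 2 = if (ROWS.getD k 0).testBit 3 then 1 else 0 := by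
  decide +kernel

theorem orb3 (k : ℕ) (hk : k < 26) :
    Nat.card {y : ↥Cfsg.M24 // y * y = rr 3 ∧ IsConj (z k) (y * ww 3)} = clsSum certs3 k :=
  card_sqrt_class_of_orbs chain_LS eltW_mem24 ZC z code_z hdisj (rr 3) (ww 3) (vv 3) (hvr 3 (by decide))
    (hvw 3 (by decide)) _ _ _ _ (code_rr 3 (by decide)) (code_ww 3 (by decide)) (code_vv 3 (by decide))
    (code_vvi 3 (by decide)) certs3 (by rw [codes_LS]; exact (orbGo_spec go3).1)
    (by rw [codes_LS]; exact (orbGo_spec go3).2.1) (by rw [hN 3 (by decide), tsum3]) k hk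

/-- the entries for the representative 4 -/
def certs4 : List (ℕ × ℕ × ℕ × ℕ) := orb4_0.map unpk ++ (orb4_1.map unpk ++ (orb4_2.map unpk))

theorem go4 : orbGo CS ZC (RC.getD 4 0) (WC.getD 4 0) (VC.getD 4 0) (VIC.getD 4 0) 0 984818244535754528103549039458486304 certs4 = true := by
  exact (orbGo_append orb4_0_ok (orbGo_append orb4_1_ok orb4_2_ok))

theorem tsum4 : (certs4.map fun t => t.2.2.2).sum = NSQ.getD 4 0 := by
  decide +kernel

theorem par4 : ∀ k < 26, clsSum certs4 k % 2 = if (ROWS.getD k 0).testBit 4 then 1 else 0 := by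
  decide +kernel

theorem orb4 (k : ℕ) (hk : k < 26) :
    Nat.card {y : ↥Cfsg.M24 // y * y = rr 4 ∧ IsConj (z k) (y * ww 4)} = clsSum certs4 k :=
  card_sqrt_class_of_orbs chain_LS eltW_mem24 ZC z code_z hdisj (rr 4) (ww 4) (vv 4) (hvr 4 (by decide))
    (hvw 4 (by decide)) _ _ _ _ (code_rr 4 (by decide)) (code_ww 4 (by decide)) (code_vv 4 (by decide))
    (code_vvi 4 (by decide)) certs4 (by rw [codes_LS]; exact (orbGo_spec go4).1)
    (by rw [codes_LS]; exact (orbGo_spec go4).2.1) (by rw [hN 4 (by decide), tsum4]) k hk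

/-- the entries for the representative 5 -/
def certs5 : List (ℕ × ℕ × ℕ × ℕ) := orb5_0.map unpk

theorem go5 : orbGo CS ZC (RC.getD 5 0) (WC.getD 5 0) (VC.getD 5 0) (VIC.getD 5 0) 0 0 certs5 = true := by
  exact orb5_0_ok

theorem tsum5 : (certs5.map fun t => t.2.2.2).sum = NSQ.getD 5 0 := by
  decide +kernel

theorem par5 : ∀ k < 26, clsSum certs5 k % 2 = if (ROWS.getD k 0).testBit 5 then 1 else 0 := by
  decide +kernel

theorem orb5 (k : ℕ) (hk : k < 26) :
    Nat.card {y : ↥Cfsg.M24 // y * y = rr 5 ∧ IsConj (z k) (y * ww 5)} = clsSum certs5 k :=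
  card_sqrt_class_of_orbs chain_LS eltW_mem24 ZC z code_z hdisj (rr 5) (ww 5) (vv 5) (hvr 5 (by decide))
    (hvw 5 (by decide)) _ _ _ _ (code_rr 5 (by decide)) (code_ww 5 (by decide)) (code_vv 5 (by decide))
    (code_vvi 5 (by decide)) certs5 (by rw [codes_LS]; exact (orbGo_spec go5).1)
    (by rw [codes_LS]; exact (orbGo_spec go5).2.1) (by rw [hN 5 (by decide), tsum5]) k hk

/-- the entries for the representative 6 -/
def certs6 : List (ℕ × ℕ × ℕ × ℕ) := orb6_0.map unpk

theorem go6 : orbGo CS ZC (RC.getD 6 0) (WC.getD 6 0) (VC.getD 6 0) (VIC.getD 6 0) 0 914698141238021438930615723544978964 certs6 = true := by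
  exact orb6_0_ok

theorem tsum6 : (certs6.map fun t => t.2.2.2).sum = NSQ.getD 6 0 := by
  decide +kernel

theorem par6 : ∀ k < 26, clsSum certs6 k % 2 = if (ROWS.getD k 0).testBit 6 then 1 else 0 := by
  decide +kernel

theorem orb6 (k : ℕ) (hk : k < 26) :
    Nat.card {y : ↥Cfsg.M24 // y * y = rr 6 ∧ IsConj (z k) (y * ww 6)} = clsSum certs6 k :=
  card_sqrt_class_of_orbs chain_LS eltW_mem24 ZC z code_z hdisj (rr 6) (ww 6) (vv 6) (hvr 6 (by decide))
    (hvw 6 (by decide)) _ _ _ _ (code_rr 6 (by decide)) (code_ww 6 (by decide)) (code_vv 6 (by decide))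
    (code_vvi 6 (by decide)) certs6 (by rw [codes_LS]; exact (orbGo_spec go6).1)
    (by rw [codes_LS]; exact (orbGo_spec go6).2.1) (by rw [hN 6 (by decide), tsum6]) k hk

/-- the entries for the representative 7 -/
def certs7 : List (ℕ × ℕ × ℕ × ℕ) := orb7_0.map unpk

theorem go7 : orbGo CS ZC (RC.getD 7 0) (WC.getD 7 0) (VC.getD 7 0) (VIC.getD 7 0) 0 0 certs7 = true := by
  exact orb7_0_ok

theorem tsum7 : (certs7.map fun t => t.2.2.2).sum = NSQ.getD 7 0 := by
  decide +kernel

theorem par7 : ∀ k < 26, clsSum certs7 k % 2 = if (ROWS.getD k 0).testBit 7 then 1 else 0 := by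
  decide +kernel

theorem orb7 (k : ℕ) (hk : k < 26) :
    Nat.card {y : ↥Cfsg.M24 // y * y = rr 7 ∧ IsConj (z k) (y * ww 7)} = clsSum certs7 k :=
  card_sqrt_class_of_orbs chain_LS eltW_mem24 ZC z code_z hdisj (rr 7) (ww 7) (vv 7) (hvr 7 (by decide))
    (hvw 7 (by decide)) _ _ _ _ (code_rr 7 (by decide)) (code_ww 7 (by decide)) (code_vv 7 (by decide))
    (code_vvi 7 (by decide)) certs7 (by rw [codes_LS]; exact (orbGo_spec go7).1)
    (by rw [codes_LS]; exact (orbGo_spec go7).2.1) (by rw [hN 7 (by decide), tsum7]) k hk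

/-- the entries for the representative 8 -/
def certs8 : List (ℕ × ℕ × ℕ × ℕ) := orb8_0.map unpk ++ (orb8_1.map unpk ++ (orb8_2.map unpk))

theorem go8 : orbGo CS ZC (RC.getD 8 0) (WC.getD 8 0) (VC.getD 8 0) (VIC.getD 8 0) 0 984818244535754528103549039458486304 certs8 = true := by
  exact (orbGo_append orb8_0_ok (orbGo_append orb8_1_ok orb8_2_ok))

theorem tsum8 : (certs8.map fun t => t.2.2.2).sum = NSQ.getD 8 0 := by
  decide +kernel

theorem par8 : ∀ k < 26, clsSum certs8 k % 2 = if (ROWS.getD k 0).testBit 8 then 1 else 0 := by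
  decide +kernel

theorem orb8 (k : ℕ) (hk : k < 26) :
    Nat.card {y : ↥Cfsg.M24 // y * y = rr 8 ∧ IsConj (z k) (y * ww 8)} = clsSum certs8 k :=
  card_sqrt_class_of_orbs chain_LS eltW_mem24 ZC z code_z hdisj (rr 8) (ww 8) (vv 8) (hvr 8 (by decide))
    (hvw 8 (by decide)) _ _ _ _ (code_rr 8 (by decide)) (code_ww 8 (by decide)) (code_vv 8 (by decide))
    (code_vvi 8 (by decide)) certs8 (by rw [codes_LS]; exact (orbGo_spec go8).1)
    (by rw [codes_LS]; exact (orbGo_spec go8).2.1) (by rw [hN 8 (by decide), tsum8]) k hk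

/-- the entries for the representative 9 -/
def certs9 : List (ℕ × ℕ × ℕ × ℕ) := orb9_0.map unpk

theorem go9 : orbGo CS ZC (RC.getD 9 0) (WC.getD 9 0) (VC.getD 9 0) (VIC.getD 9 0) 0 900966960070600600135609579832905928 certs9 = true := by
  exact orb9_0_ok

theorem tsum9 : (certs9.map fun t => t.2.2.2).sum = NSQ.getD 9 0 := by
  decide +kernel

theorem par9 : ∀ k < 26, clsSum certs9 k % 2 = if (ROWS.getD k 0).testBit 9 then 1 else 0 := by
  decide +kernel

theorem orb9 (k : ℕ) (hk : k < 26) :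
    Nat.card {y : ↥Cfsg.M24 // y * y = rr 9 ∧ IsConj (z k) (y * ww 9)} = clsSum certs9 k :=
  card_sqrt_class_of_orbs chain_LS eltW_mem24 ZC z code_z hdisj (rr 9) (ww 9) (vv 9) (hvr 9 (by decide))
    (hvw 9 (by decide)) _ _ _ _ (code_rr 9 (by decide)) (code_ww 9 (by decide)) (code_vv 9 (by decide))
    (code_vvi 9 (by decide)) certs9 (by rw [codes_LS]; exact (orbGo_spec go9).1)
    (by rw [codes_LS]; exact (orbGo_spec go9).2.1) (by rw [hN 9 (by decide), tsum9]) k hk

/-- the entries for the representative 10 -/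
def certs10 : List (ℕ × ℕ × ℕ × ℕ) := orb10_0.map unpk

theorem go10 : orbGo CS ZC (RC.getD 10 0) (WC.getD 10 0) (VC.getD 10 0) (VIC.getD 10 0) 0 917055487651399167434765345872815634 certs10 = true := by
  exact orb10_0_ok

theorem tsum10 : (certs10.map fun t => t.2.2.2).sum = NSQ.getD 10 0 := by
  decide +kernel

theorem par10 : ∀ k < 26, clsSum certs10 k % 2 = if (ROWS.getD k 0).testBit 10 then 1 else 0 := by
  decide +kernel

theorem orb10 (k : ℕ) (hk : k < 26) :
    Nat.card {y : ↥Cfsg.M24 // y * y = rr 10 ∧ IsConj (z k) (y * ww 10)} = clsSum certs10 k :=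
  card_sqrt_class_of_orbs chain_LS eltW_mem24 ZC z code_z hdisj (rr 10) (ww 10) (vv 10) (hvr 10 (by decide))
    (hvw 10 (by decide)) _ _ _ _ (code_rr 10 (by decide)) (code_ww 10 (by decide)) (code_vv 10 (by decide))
    (code_vvi 10 (by decide)) certs10 (by rw [codes_LS]; exact (orbGo_spec go10).1)
    (by rw [codes_LS]; exact (orbGo_spec go10).2.1) (by rw [hN 10 (by decide), tsum10]) k hk

/-- the entries for the representative 11 -/
def certs11 : List (ℕ × ℕ × ℕ × ℕ) := orb11_0.map unpk ++ (orb11_1.map unpk ++ (orb11_2.map unpk))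

theorem go11 : orbGo CS ZC (RC.getD 11 0) (WC.getD 11 0) (VC.getD 11 0) (VIC.getD 11 0) 0 984818244535754528103549039458486304 certs11 = true := by
  exact (orbGo_append orb11_0_ok (orbGo_append orb11_1_ok orb11_2_ok))

theorem tsum11 : (certs11.map fun t => t.2.2.2).sum = NSQ.getD 11 0 := by
  decide +kernel

theorem par11 : ∀ k < 26, clsSum certs11 k % 2 = if (ROWS.getD k 0).testBit 11 then 1 else 0 := by
  decide +kernel

theorem orb11 (k : ℕ) (hk : k < 26) :
    Nat.card {y : ↥Cfsg.M24 // y * y = rr 11 ∧ IsConj (z k) (y * ww 11)} = clsSum certs11 k :=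
  card_sqrt_class_of_orbs chain_LS eltW_mem24 ZC z code_z hdisj (rr 11) (ww 11) (vv 11) (hvr 11 (by decide))
    (hvw 11 (by decide)) _ _ _ _ (code_rr 11 (by decide)) (code_ww 11 (by decide)) (code_vv 11 (by decide))
    (code_vvi 11 (by decide)) certs11 (by rw [codes_LS]; exact (orbGo_spec go11).1)
    (by rw [codes_LS]; exact (orbGo_spec go11).2.1) (by rw [hN 11 (by decide), tsum11]) k hk

/-- the entries for the representative 12 -/
def certs12 : List (ℕ × ℕ × ℕ × ℕ) := orb12_0.map unpk ++ (orb12_1.map unpk ++ (orb12_2.map unpk))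

theorem go12 : orbGo CS ZC (RC.getD 12 0) (WC.getD 12 0) (VC.getD 12 0) (VIC.getD 12 0) 0 984818244535754528103549039458486304 certs12 = true := by
  exact (orbGo_append orb12_0_ok (orbGo_append orb12_1_ok orb12_2_ok))

theorem tsum12 : (certs12.map fun t => t.2.2.2).sum = NSQ.getD 12 0 := by
  decide +kernel

theorem par12 : ∀ k < 26, clsSum certs12 k % 2 = if (ROWS.getD k 0).testBit 12 then 1 else 0 := by
  decide +kernel

theorem orb12 (k : ℕ) (hk : k < 26) :
    Nat.card {y : ↥Cfsg.M24 // y * y = rr 12 ∧ IsConj (z k) (y * ww 12)} = clsSum certs12 k :=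
  card_sqrt_class_of_orbs chain_LS eltW_mem24 ZC z code_z hdisj (rr 12) (ww 12) (vv 12) (hvr 12 (by decide))
    (hvw 12 (by decide)) _ _ _ _ (code_rr 12 (by decide)) (code_ww 12 (by decide)) (code_vv 12 (by decide))
    (code_vvi 12 (by decide)) certs12 (by rw [codes_LS]; exact (orbGo_spec go12).1)
    (by rw [codes_LS]; exact (orbGo_spec go12).2.1) (by rw [hN 12 (by decide), tsum12]) k hk

/-- the entries for the representative 13 -/
def certs13 : List (ℕ × ℕ × ℕ × ℕ) := orb13_0.map unpk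

theorem go13 : orbGo CS ZC (RC.getD 13 0) (WC.getD 13 0) (VC.getD 13 0) (VIC.getD 13 0) 0 0 certs13 = true := by
  exact orb13_0_ok

theorem tsum13 : (certs13.map fun t => t.2.2.2).sum = NSQ.getD 13 0 := by
  decide +kernel

theorem par13 : ∀ k < 26, clsSum certs13 k % 2 = if (ROWS.getD k 0).testBit 13 then 1 else 0 := by
  decide +kernel

theorem orb13 (k : ℕ) (hk : k < 26) :
    Nat.card {y : ↥Cfsg.M24 // y * y = rr 13 ∧ IsConj (z k) (y * ww 13)} = clsSum certs13 k :=
  card_sqrt_class_of_orbs chain_LS eltW_mem24 ZC z code_z hdisj (rr 13) (ww 13) (vv 13) (hvr 13 (by decide))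
    (hvw 13 (by decide)) _ _ _ _ (code_rr 13 (by decide)) (code_ww 13 (by decide)) (code_vv 13 (by decide))
    (code_vvi 13 (by decide)) certs13 (by rw [codes_LS]; exact (orbGo_spec go13).1)
    (by rw [codes_LS]; exact (orbGo_spec go13).2.1) (by rw [hN 13 (by decide), tsum13]) k hk

/-- the entries for the representative 14 -/
def certs14 : List (ℕ × ℕ × ℕ × ℕ) := orb14_0.map unpk

theorem go14 : orbGo CS ZC (RC.getD 14 0) (WC.getD 14 0) (VC.getD 14 0) (VIC.getD 14 0) 0 922425594391782286544533223769194913 certs14 = true := by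
  exact orb14_0_ok

theorem tsum14 : (certs14.map fun t => t.2.2.2).sum = NSQ.getD 14 0 := by
  decide +kernel

theorem par14 : ∀ k < 26, clsSum certs14 k % 2 = if (ROWS.getD k 0).testBit 14 then 1 else 0 := by
  decide +kernel

theorem orb14 (k : ℕ) (hk : k < 26) :
    Nat.card {y : ↥Cfsg.M24 // y * y = rr 14 ∧ IsConj (z k) (y * ww 14)} = clsSum certs14 k :=
  card_sqrt_class_of_orbs chain_LS eltW_mem24 ZC z code_z hdisj (rr 14) (ww 14) (vv 14) (hvr 14 (by decide))
    (hvw 14 (by decide)) _ _ _ _ (code_rr 14 (by decide)) (code_ww 14 (by decide)) (code_vv 14 (by decide))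
    (code_vvi 14 (by decide)) certs14 (by rw [codes_LS]; exact (orbGo_spec go14).1)
    (by rw [codes_LS]; exact (orbGo_spec go14).2.1) (by rw [hN 14 (by decide), tsum14]) k hk

/-- the entries for the representative 15 -/
def certs15 : List (ℕ × ℕ × ℕ × ℕ) := orb15_0.map unpk ++ (orb15_1.map unpk ++ (orb15_2.map unpk ++ (orb15_3.map unpk)))

theorem go15 : orbGo CS ZC (RC.getD 15 0) (WC.getD 15 0) (VC.getD 15 0) (VIC.getD 15 0) 0 984818244535754528103549039458486304 certs15 = true := by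
  exact (orbGo_append orb15_0_ok (orbGo_append orb15_1_ok (orbGo_append orb15_2_ok orb15_3_ok)))

theorem tsum15 : (certs15.map fun t => t.2.2.2).sum = NSQ.getD 15 0 := by
  decide +kernel

theorem par15 : ∀ k < 26, clsSum certs15 k % 2 = if (ROWS.getD k 0).testBit 15 then 1 else 0 := by
  decide +kernel

theorem orb15 (k : ℕ) (hk : k < 26) :
    Nat.card {y : ↥Cfsg.M24 // y * y = rr 15 ∧ IsConj (z k) (y * ww 15)} = clsSum certs15 k :=
  card_sqrt_class_of_orbs chain_LS eltW_mem24 ZC z code_z hdisj (rr 15) (ww 15) (vv 15) (hvr 15 (by decide))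
    (hvw 15 (by decide)) _ _ _ _ (code_rr 15 (by decide)) (code_ww 15 (by decide)) (code_vv 15 (by decide))
    (code_vvi 15 (by decide)) certs15 (by rw [codes_LS]; exact (orbGo_spec go15).1)
    (by rw [codes_LS]; exact (orbGo_spec go15).2.1) (by rw [hN 15 (by decide), tsum15]) k hk

/-- the entries for the representative 16 -/
def certs16 : List (ℕ × ℕ × ℕ × ℕ) := orb16_0.map unpk

theorem go16 : orbGo CS ZC (RC.getD 16 0) (WC.getD 16 0) (VC.getD 16 0) (VIC.getD 16 0) 0 0 certs16 = true := by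
  exact orb16_0_ok

theorem tsum16 : (certs16.map fun t => t.2.2.2).sum = NSQ.getD 16 0 := by
  decide +kernel

theorem par16 : ∀ k < 26, clsSum certs16 k % 2 = if (ROWS.getD k 0).testBit 16 then 1 else 0 := by
  decide +kernel

theorem orb16 (k : ℕ) (hk : k < 26) :
    Nat.card {y : ↥Cfsg.M24 // y * y = rr 16 ∧ IsConj (z k) (y * ww 16)} = clsSum certs16 k :=
  card_sqrt_class_of_orbs chain_LS eltW_mem24 ZC z code_z hdisj (rr 16) (ww 16) (vv 16) (hvr 16 (by decide))
    (hvw 16 (by decide)) _ _ _ _ (code_rr 16 (by decide)) (code_ww 16 (by decide)) (code_vv 16 (by decide))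
    (code_vvi 16 (by decide)) certs16 (by rw [codes_LS]; exact (orbGo_spec go16).1)
    (by rw [codes_LS]; exact (orbGo_spec go16).2.1) (by rw [hN 16 (by decide), tsum16]) k hk

/-- the entries for the representative 17 -/
def certs17 : List (ℕ × ℕ × ℕ × ℕ) := orb17_0.map unpk

theorem go17 : orbGo CS ZC (RC.getD 17 0) (WC.getD 17 0) (VC.getD 17 0) (VIC.getD 17 0) 0 0 certs17 = true := by
  exact orb17_0_ok

theorem tsum17 : (certs17.map fun t => t.2.2.2).sum = NSQ.getD 17 0 := by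
  decide +kernel

theorem par17 : ∀ k < 26, clsSum certs17 k % 2 = if (ROWS.getD k 0).testBit 17 then 1 else 0 := by
  decide +kernel

theorem orb17 (k : ℕ) (hk : k < 26) :
    Nat.card {y : ↥Cfsg.M24 // y * y = rr 17 ∧ IsConj (z k) (y * ww 17)} = clsSum certs17 k :=
  card_sqrt_class_of_orbs chain_LS eltW_mem24 ZC z code_z hdisj (rr 17) (ww 17) (vv 17) (hvr 17 (by decide))
    (hvw 17 (by decide)) _ _ _ _ (code_rr 17 (by decide)) (code_ww 17 (by decide)) (code_vv 17 (by decide))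
    (code_vvi 17 (by decide)) certs17 (by rw [codes_LS]; exact (orbGo_spec go17).1)
    (by rw [codes_LS]; exact (orbGo_spec go17).2.1) (by rw [hN 17 (by decide), tsum17]) k hk

/-- the entries for the representative 18 -/
def certs18 : List (ℕ × ℕ × ℕ × ℕ) := orb18_0.map unpk

theorem go18 : orbGo CS ZC (RC.getD 18 0) (WC.getD 18 0) (VC.getD 18 0) (VIC.getD 18 0) 0 983274907041237416997126334114170915 certs18 = true := by
  exact orb18_0_ok

theorem tsum18 : (certs18.map fun t => t.2.2.2).sum = NSQ.getD 18 0 := by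
  decide +kernel

theorem par18 : ∀ k < 26, clsSum certs18 k % 2 = if (ROWS.getD k 0).testBit 18 then 1 else 0 := by
  decide +kernel

theorem orb18 (k : ℕ) (hk : k < 26) :
    Nat.card {y : ↥Cfsg.M24 // y * y = rr 18 ∧ IsConj (z k) (y * ww 18)} = clsSum certs18 k :=
  card_sqrt_class_of_orbs chain_LS eltW_mem24 ZC z code_z hdisj (rr 18) (ww 18) (vv 18) (hvr 18 (by decide))
    (hvw 18 (by decide)) _ _ _ _ (code_rr 18 (by decide)) (code_ww 18 (by decide)) (code_vv 18 (by decide))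
    (code_vvi 18 (by decide)) certs18 (by rw [codes_LS]; exact (orbGo_spec go18).1)
    (by rw [codes_LS]; exact (orbGo_spec go18).2.1) (by rw [hN 18 (by decide), tsum18]) k hk

/-- the entries for the representative 19 -/
def certs19 : List (ℕ × ℕ × ℕ × ℕ) := orb19_0.map unpk

theorem go19 : orbGo CS ZC (RC.getD 19 0) (WC.getD 19 0) (VC.getD 19 0) (VIC.getD 19 0) 0 983274907041237416997126334114170915 certs19 = true := by
  exact orb19_0_ok

theorem tsum19 : (certs19.map fun t => t.2.2.2).sum = NSQ.getD 19 0 := by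
  decide +kernel

theorem par19 : ∀ k < 26, clsSum certs19 k % 2 = if (ROWS.getD k 0).testBit 19 then 1 else 0 := by
  decide +kernel

theorem orb19 (k : ℕ) (hk : k < 26) :
    Nat.card {y : ↥Cfsg.M24 // y * y = rr 19 ∧ IsConj (z k) (y * ww 19)} = clsSum certs19 k :=
  card_sqrt_class_of_orbs chain_LS eltW_mem24 ZC z code_z hdisj (rr 19) (ww 19) (vv 19) (hvr 19 (by decide))
    (hvw 19 (by decide)) _ _ _ _ (code_rr 19 (by decide)) (code_ww 19 (by decide)) (code_vv 19 (by decide))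
    (code_vvi 19 (by decide)) certs19 (by rw [codes_LS]; exact (orbGo_spec go19).1)
    (by rw [codes_LS]; exact (orbGo_spec go19).2.1) (by rw [hN 19 (by decide), tsum19]) k hk

/-- the entries for the representative 20 -/
def certs20 : List (ℕ × ℕ × ℕ × ℕ) := orb20_0.map unpk ++ (orb20_1.map unpk ++ (orb20_2.map unpk))

theorem go20 : orbGo CS ZC (RC.getD 20 0) (WC.getD 20 0) (VC.getD 20 0) (VIC.getD 20 0) 0 984818244535754528103549039458486304 certs20 = true := by
  exact (orbGo_append orb20_0_ok (orbGo_append orb20_1_ok orb20_2_ok))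

theorem tsum20 : (certs20.map fun t => t.2.2.2).sum = NSQ.getD 20 0 := by
  decide +kernel

theorem par20 : ∀ k < 26, clsSum certs20 k % 2 = if (ROWS.getD k 0).testBit 20 then 1 else 0 := by
  decide +kernel

theorem orb20 (k : ℕ) (hk : k < 26) :
    Nat.card {y : ↥Cfsg.M24 // y * y = rr 20 ∧ IsConj (z k) (y * ww 20)} = clsSum certs20 k :=
  card_sqrt_class_of_orbs chain_LS eltW_mem24 ZC z code_z hdisj (rr 20) (ww 20) (vv 20) (hvr 20 (by decide))
    (hvw 20 (by decide)) _ _ _ _ (code_rr 20 (by decide)) (code_ww 20 (by decide)) (code_vv 20 (by decide))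
    (code_vvi 20 (by decide)) certs20 (by rw [codes_LS]; exact (orbGo_spec go20).1)
    (by rw [codes_LS]; exact (orbGo_spec go20).2.1) (by rw [hN 20 (by decide), tsum20]) k hk

/-- the entries for the representative 21 -/
def certs21 : List (ℕ × ℕ × ℕ × ℕ) := orb21_0.map unpk ++ (orb21_1.map unpk ++ (orb21_2.map unpk))

theorem go21 : orbGo CS ZC (RC.getD 21 0) (WC.getD 21 0) (VC.getD 21 0) (VIC.getD 21 0) 0 984818244535754528103549039458486304 certs21 = true := by
  exact (orbGo_append orb21_0_ok (orbGo_append orb21_1_ok orb21_2_ok))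

theorem tsum21 : (certs21.map fun t => t.2.2.2).sum = NSQ.getD 21 0 := by
  decide +kernel

theorem par21 : ∀ k < 26, clsSum certs21 k % 2 = if (ROWS.getD k 0).testBit 21 then 1 else 0 := by
  decide +kernel

theorem orb21 (k : ℕ) (hk : k < 26) :
    Nat.card {y : ↥Cfsg.M24 // y * y = rr 21 ∧ IsConj (z k) (y * ww 21)} = clsSum certs21 k :=
  card_sqrt_class_of_orbs chain_LS eltW_mem24 ZC z code_z hdisj (rr 21) (ww 21) (vv 21) (hvr 21 (by decide))
    (hvw 21 (by decide)) _ _ _ _ (code_rr 21 (by decide)) (code_ww 21 (by decide)) (code_vv 21 (by decide))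
    (code_vvi 21 (by decide)) certs21 (by rw [codes_LS]; exact (orbGo_spec go21).1)
    (by rw [codes_LS]; exact (orbGo_spec go21).2.1) (by rw [hN 21 (by decide), tsum21]) k hk

/-- the entries for the representative 22 -/
def certs22 : List (ℕ × ℕ × ℕ × ℕ) := orb22_0.map unpk ++ (orb22_1.map unpk ++ (orb22_2.map unpk))

theorem go22 : orbGo CS ZC (RC.getD 22 0) (WC.getD 22 0) (VC.getD 22 0) (VIC.getD 22 0) 0 984818244535754528103549039458486304 certs22 = true := by
  exact (orbGo_append orb22_0_ok (orbGo_append orb22_1_ok orb22_2_ok))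

theorem tsum22 : (certs22.map fun t => t.2.2.2).sum = NSQ.getD 22 0 := by
  decide +kernel

theorem par22 : ∀ k < 26, clsSum certs22 k % 2 = if (ROWS.getD k 0).testBit 22 then 1 else 0 := by
  decide +kernel

theorem orb22 (k : ℕ) (hk : k < 26) :
    Nat.card {y : ↥Cfsg.M24 // y * y = rr 22 ∧ IsConj (z k) (y * ww 22)} = clsSum certs22 k :=
  card_sqrt_class_of_orbs chain_LS eltW_mem24 ZC z code_z hdisj (rr 22) (ww 22) (vv 22) (hvr 22 (by decide))
    (hvw 22 (by decide)) _ _ _ _ (code_rr 22 (by decide)) (code_ww 22 (by decide)) (code_vv 22 (by decide))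
    (code_vvi 22 (by decide)) certs22 (by rw [codes_LS]; exact (orbGo_spec go22).1)
    (by rw [codes_LS]; exact (orbGo_spec go22).2.1) (by rw [hN 22 (by decide), tsum22]) k hk

/-- the entries for the representative 23 -/
def certs23 : List (ℕ × ℕ × ℕ × ℕ) := orb23_0.map unpk ++ (orb23_1.map unpk ++ (orb23_2.map unpk))

theorem go23 : orbGo CS ZC (RC.getD 23 0) (WC.getD 23 0) (VC.getD 23 0) (VIC.getD 23 0) 0 984818244535754528103549039458486304 certs23 = true := by
  exact (orbGo_append orb23_0_ok (orbGo_append orb23_1_ok orb23_2_ok))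

theorem tsum23 : (certs23.map fun t => t.2.2.2).sum = NSQ.getD 23 0 := by
  decide +kernel

theorem par23 : ∀ k < 26, clsSum certs23 k % 2 = if (ROWS.getD k 0).testBit 23 then 1 else 0 := by
  decide +kernel

theorem orb23 (k : ℕ) (hk : k < 26) :
    Nat.card {y : ↥Cfsg.M24 // y * y = rr 23 ∧ IsConj (z k) (y * ww 23)} = clsSum certs23 k :=
  card_sqrt_class_of_orbs chain_LS eltW_mem24 ZC z code_z hdisj (rr 23) (ww 23) (vv 23) (hvr 23 (by decide))
    (hvw 23 (by decide)) _ _ _ _ (code_rr 23 (by decide)) (code_ww 23 (by decide)) (code_vv 23 (by decide))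
    (code_vvi 23 (by decide)) certs23 (by rw [codes_LS]; exact (orbGo_spec go23).1)
    (by rw [codes_LS]; exact (orbGo_spec go23).2.1) (by rw [hN 23 (by decide), tsum23]) k hk

/-- the entries for the representative 24 -/
def certs24 : List (ℕ × ℕ × ℕ × ℕ) := orb24_0.map unpk ++ (orb24_1.map unpk)

theorem go24 : orbGo CS ZC (RC.getD 24 0) (WC.getD 24 0) (VC.getD 24 0) (VIC.getD 24 0) 0 984818244535754528103549039458486304 certs24 = true := by
  exact (orbGo_append orb24_0_ok orb24_1_ok)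

theorem tsum24 : (certs24.map fun t => t.2.2.2).sum = NSQ.getD 24 0 := by
  decide +kernel

theorem par24 : ∀ k < 26, clsSum certs24 k % 2 = if (ROWS.getD k 0).testBit 24 then 1 else 0 := by
  decide +kernel

theorem orb24 (k : ℕ) (hk : k < 26) :
    Nat.card {y : ↥Cfsg.M24 // y * y = rr 24 ∧ IsConj (z k) (y * ww 24)} = clsSum certs24 k :=
  card_sqrt_class_of_orbs chain_LS eltW_mem24 ZC z code_z hdisj (rr 24) (ww 24) (vv 24) (hvr 24 (by decide))
    (hvw 24 (by decide)) _ _ _ _ (code_rr 24 (by decide)) (code_ww 24 (by decide)) (code_vv 24 (by decide))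
    (code_vvi 24 (by decide)) certs24 (by rw [codes_LS]; exact (orbGo_spec go24).1)
    (by rw [codes_LS]; exact (orbGo_spec go24).2.1) (by rw [hN 24 (by decide), tsum24]) k hk

/-- the entries for the representative 25 -/
def certs25 : List (ℕ × ℕ × ℕ × ℕ) := orb25_0.map unpk ++ (orb25_1.map unpk)

theorem go25 : orbGo CS ZC (RC.getD 25 0) (WC.getD 25 0) (VC.getD 25 0) (VIC.getD 25 0) 0 984818244535754528103549039458486304 certs25 = true := by
  exact (orbGo_append orb25_0_ok orb25_1_ok)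

theorem tsum25 : (certs25.map fun t => t.2.2.2).sum = NSQ.getD 25 0 := by
  decide +kernel

theorem par25 : ∀ k < 26, clsSum certs25 k % 2 = if (ROWS.getD k 0).testBit 25 then 1 else 0 := by
  decide +kernel

theorem orb25 (k : ℕ) (hk : k < 26) :
    Nat.card {y : ↥Cfsg.M24 // y * y = rr 25 ∧ IsConj (z k) (y * ww 25)} = clsSum certs25 k :=
  card_sqrt_class_of_orbs chain_LS eltW_mem24 ZC z code_z hdisj (rr 25) (ww 25) (vv 25) (hvr 25 (by decide))
    (hvw 25 (by decide)) _ _ _ _ (code_rr 25 (by decide)) (code_ww 25 (by decide)) (code_vv 25 (by decide))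
    (code_vvi 25 (by decide)) certs25 (by rw [codes_LS]; exact (orbGo_spec go25).1)
    (by rw [codes_LS]; exact (orbGo_spec go25).2.1) (by rw [hN 25 (by decide), tsum25]) k hk

theorem rr_zero : rr 0 = 1 := by
  apply Subtype.ext
  apply codeOf_injective
  rw [code_rr 0 (by decide), Subgroup.coe_one, codeOf_one]
  decide +kernel

theorem ww_zero : ww 0 = 1 := by
  apply Subtype.ext
  apply codeOf_injective
  rw [code_ww 0 (by decide), Subgroup.coe_one, codeOf_one]
  decide +kernel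

theorem row_zero (k : ℕ) (hk : k < 26) :
    Nat.card {y : ↥Cfsg.M24 // y * y = rr 0 ∧ IsConj (z k) (y * ww 0)} % 2 =
      if (ROWS.getD k 0).testBit 0 then 1 else 0 := by
  rw [rr_zero, card_sq_one_in_class (z k) (ww 0) ww_zero, ← row0_checks k hk]
  by_cases h : cmp (ZC.getD k 0) (ZC.getD k 0) = idN
  · have h' : z k * z k = 1 := by
      rw [sq_eq_one_iff_code, code_z k hk]; exact h
    rw [if_pos h, if_pos h', card_class_eq (z k) _ (hcent k hk), card24]
  · have h' : ¬ z k * z k = 1 := by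
      rw [sq_eq_one_iff_code, code_z k hk]; exact h
    rw [if_neg h, if_neg h']

theorem hrows : ∀ k < 26, ∀ l < 26,
    pairCount (z k) (z l) % 2 = if (ROWS.getD k 0).testBit l then 1 else 0 := by
  intro k hk l hl
  have h := pc_mod k l hl
  unfold Nat.ModEq at h
  rw [h]
  interval_cases l
  · exact row_zero k hk
  · rw [orb1 k hk]; exact par1 k hk
  · rw [orb2 k hk]; exact par2 k hk
  · rw [orb3 k hk]; exact par3 k hk
  · rw [orb4 k hk]; exact par4 k hk
  · rw [orb5 k hk]; exact par5 k hk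
  · rw [orb6 k hk]; exact par6 k hk
  · rw [orb7 k hk]; exact par7 k hk
  · rw [orb8 k hk]; exact par8 k hk
  · rw [orb9 k hk]; exact par9 k hk
  · rw [orb10 k hk]; exact par10 k hk
  · rw [orb11 k hk]; exact par11 k hk
  · rw [orb12 k hk]; exact par12 k hk
  · rw [orb13 k hk]; exact par13 k hk
  · rw [orb14 k hk]; exact par14 k hk
  · rw [orb15 k hk]; exact par15 k hk
  · rw [orb16 k hk]; exact par16 k hk
  · rw [orb17 k hk]; exact par17 k hk
  · rw [orb18 k hk]; exact par18 k hk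
  · rw [orb19 k hk]; exact par19 k hk
  · rw [orb20 k hk]; exact par20 k hk
  · rw [orb21 k hk]; exact par21 k hk
  · rw [orb22 k hk]; exact par22 k hk
  · rw [orb23 k hk]; exact par23 k hk
  · rw [orb24 k hk]; exact par24 k hk
  · rw [orb25 k hk]; exact par25 k hk

theorem sameBlock24 (M : Ideal Cfsg.AlgInt) (hM : Cfsg.IsPModular 2 M) (χ ψ : Cfsg.IrrCharacter ↥Cfsg.M24) :
    Cfsg.SameBlock M (χ : ↥Cfsg.M24 → ℂ) (ψ : ↥Cfsg.M24 → ℂ) :=
  sameBlock_of_cert hM 26 z z_zero hcomp hdisj ROWS rfl hrows 3 hnil χ ψ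

end Cfsg.Agent.Lib.Helper4.Blk.M24
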